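import Cfsg.Agent.H632.PQ.Arith
import Cfsg.Agent.H996.PQ.RowTwEX

/-!
# The tests for `²E₆(q)`, nodes `0` and `3` (helper632, for S4612; made by a program)
-/

set_option autoImplicit false
set_option maxRecDepth 20000

namespace Cfsg.Agent.H632.PQ.TwEa

open Cfsg.Agent.H632.PQ.Arith Cfsg.Agent.H996.PQ

/-- the reasons -/
def tab : Tab 5 := [
  (2, [[.tr 2 [1] []],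
    [.tr 10 [-1] [12, -10, 10, -10, 8, -6, 6, -4, 2, -2, 2], .co 1 [1, 1, 1, 0, 1, 1, 2, 1, 1, 1, 2, 2, 1, 1, 1, 2, 1, 1, 0, 1, 1, 1] 12 [-1] [12, -10, 10, -8, 6, -6, 4, -2, 2, -2]],
    [],
    [],
    [.tr 2 [1] [0, 0, 0, -1, 0, 0, -1, 0, -1, 0, 0, -1, -1, 0, 0, -1, 0, -1, 0, 0, -1]],
    [.cls 3 8 [1] [8, -8, 8, -8, 8, -8, 8, -8, 8, -7, 7, -7, 6, -5, 5, -4, 3, -3, 2, -1, 1, -1]],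
    [.cls 3 8 [1] [8, -8, 8, -8, 8, -8, 8, -8, 8, -7, 7, -7, 6, -5, 5, -4, 3, -3, 2, -1, 1, -1]],
    [.cls 3 8 [1] [8, -8, 8, -8, 8, -8, 8, -8, 8, -7, 7, -7, 6, -5, 5, -4, 3, -3, 2, -1, 1, -1]],
    [.tr 28 [-1] [30, -30, 30, -29, 30, -28, 27, -26, 25, -20, 20, -17, 13, -10, 10, -5, 4, -3, 2, 0, 1], .co 1 [1, 1, 1, 0, 1, 1, 2, 1, 1, 1, 2, 2, 1, 1, 1, 2, 1, 1, 0, 1, 1, 1] 12 [-1] [14, -12, 11, -12, 11, -9, 10, -9, 6, -6, 6, -3, 2, -3, 1, 0, 1]],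
    [.co 2 [0, 0, 1, 0, 1, -1, 2, -1, 3, -2, 3, -2, 4, -2, 3, -2, 3, -1, 2, -1, 1, 0, 1] 32 [1] [30, -29, 27, -24, 21, -19, 16, -12, 10, -8, 5, -3, 2, -1, 1]],
    [],
    [],
    [.cls 3 8 [1] [8, -8, 8, -8, 8, -8, 8, -8, 8, -7, 7, -7, 6, -5, 5, -4, 3, -3, 2, -1, 1, -1]],
    [.cls 3 8 [1] [8, -8, 8, -8, 8, -8, 8, -8, 8, -7, 7, -7, 6, -5, 5, -4, 3, -3, 2, -1, 1, -1]],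
    [.cls 3 8 [1] [8, -8, 8, -8, 8, -8, 8, -8, 8, -7, 7, -7, 6, -5, 5, -4, 3, -3, 2, -1, 1, -1]],
    [.cls 3 8 [1] [8, -8, 8, -8, 8, -8, 8, -8, 8, -7, 7, -7, 6, -5, 5, -4, 3, -3, 2, -1, 1, -1]]]),
  (3, [[.tr 2 [1] []],
    [],
    [.tr 2 [-1] [4, -4, 2, 0, 0, -2, 6, -6, 4, -2, 2, -2, 4, -4, 2]],
    [.tr 4 [-1] [6, -4, 0, 2, -2, 0, 6, -6, 2, 0, 2, -2, 4, -4, 2]],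
    [.tr 6 [1] [4, -4, 0, 3, -4, 1, 2, -4, 1, 2, -3, 0, 1, -2, 1, 0, -2, 1, 0, -1]],
    [.tr 4 [1] [2, -4, 2, 1, -2, -1, 2, -4, 3, 0, -3, 0, 1, -2, 1, 0, -2, 1, 0, -1]],
    [.tr 2 [1] [0, 0, -2, 3, -4, 3, -4, 2, -3, 4, -5, 2, -3, 2, -1, 0, -2, 1, 0, -1]],
    [],
    [.tr 2 [1] [0, 0, 0, -1, 0, -1, 2, -2, 1, -4, 3, -2, 3, -4, 1, -2, 2, -1, 0, -1]],
    [.cls 4 12 [2, 1] [12, -12, 0, 12, -12, 0, 12, -12, 0, 10, -7, -1, 6, -4, -1, 3, -1, -1, 0, 2, -1, -1]],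
    [.tr 2 [-1] [4, -4, 2, 1, 0, -1, 4, -4, 3, 2, -1, 0, 1, 0, 1, 2, -2, 1, 0, 1]],
    [.tr 4 [-1] [6, -4, 0, 3, -2, 1, 4, -4, 1, 4, -1, 0, 1, 0, 1, 2, -2, 1, 0, 1]],
    [.tr 6 [1] [4, -4, 0, 2, -4, 0, 4, -6, 2, -2, 0, -2, 4, -6, 2, -2, 0, 0, 0, -2]],
    [.tr 4 [1] [2, -4, 2, 0, -2, -2, 4, -6, 4, -4, 0, -2, 4, -6, 2, -2, 0, 0, 0, -2]],
    [.tr 2 [1] [0, 0, -2, 2, -4, 2, -2, 0, -2, 0, -2, 0, 0, -2, 0, -2, 0, 0, 0, -2]],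
    [.cls 4 12 [2, 1] [12, -12, 0, 12, -12, 0, 12, -12, 0, 10, -7, -1, 6, -4, -1, 3, -1, -1, 0, 2, -1, -1]]]),
  (4, [[.tr 2 [1] []],
    [.tr 2 [-1] [4, 2, -4, -2, 2, 4, -2, -2, 0, 2]],
    [.tr 2 [1] [0, 0, -2, 2, 0, 0, -4, 2, 0, 2, -4, 0, 0, 2, -2]],
    [.tr 2 [-1] [4, 2, -2, -4, 2, 4, 2, -4, 0, 0, 4, 0, 0, -2, 2]],
    [.tr 6 [1] [4, 0, -4, -1, 3, 1, -4, -2, 3, 1, -3, -2, 1, 1, -1, -2, 0, 1, -1, -1]],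
    [.tr 2 [1] [0, -2, 0, 1, 1, -3, -2, 0, 3, -1, -3, -2, 1, 1, -1, -2, 0, 1, -1, -1]],
    [.tr 6 [1] [4, 0, -6, 1, 3, 1, -8, 0, 3, 3, -7, -2, 1, 3, -3, -2, 0, 1, -1, -1]],
    [.tr 2 [1] [0, -2, -2, 3, 1, -3, -6, 2, 3, 1, -7, -2, 1, 3, -3, -2, 0, 1, -1, -1]],
    [],
    [.tr 4 [-1] [6, 2, -6, -1, 5, 5, -6, -2, 3, 7, -3, -2, -1, 5, 1, 0, -2, 1, 1, 1]],
    [.cls 2 2 [0, -1] [2, 0, -2, 0, 2, 0, -2, 0, 2, 0, -2, -1, 2, 1, -1, -1, 1, 1, -1, -1, 0, 1]],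
    [.tr 4 [-1] [6, 2, -4, -3, 5, 5, -2, -4, 3, 5, 1, -2, -1, 3, 3, 0, -2, 1, 1, 1]],
    [.tr 4 [1] [2, 0, -2, -2, 0, 0, 0, -2, 0, -4, 0, 0, 2, -4, -2, -2, 2, 0, -2, -2]],
    [],
    [.tr 4 [1] [2, 0, -4, 0, 0, 0, -4, 0, 0, -2, -4, 0, 2, -2, -4, -2, 2, 0, -2, -2]],
    [.cls 2 2 [0, -1] [2, 0, -2, 0, 2, 0, -2, 0, 2, 0, -2, -1, 2, 1, -1, -1, 1, 1, -1, -1, 0, 1]]]),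
  (6, [[.tr 2 [1] []],
    [.tr 8 [1] [6, 4, -2, -6, -2, 2, 4, 0, -2, -2]],
    [.tr 6 [1] [4, 4, -2, -4, -4, 2, 2, 2, -4, -2, -2, 2, 0, 0, -2]],
    [.tr 12 [1] [10, 8, -4, -10, -6, 4, 6, 2, -6, -4, -2, 2, 0, 0, -2]],
    [.tr 2 [1] [0, 0, 0, -1, -2, -1, 0, 0, -1, -2, -1, 0, -1, -2, -1, 0, 0, -1, -2, -1]],
    [.tr 8 [1] [6, 4, -2, -7, -4, 1, 4, 0, -3, -4, -1, 0, -1, -2, -1, 0, 0, -1, -2, -1]],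
    [.tr 6 [1] [4, 4, -2, -5, -6, 1, 2, 2, -5, -4, -3, 2, -1, -2, -3, 0, 0, -1, -2, -1]],
    [.tr 12 [1] [10, 8, -4, -11, -8, 3, 6, 2, -7, -6, -3, 2, -1, -2, -3, 0, 0, -1, -2, -1]],
    [.tr 10 [-1] [12, 12, 0, -11, -10, 3, 12, 10, -3, -8, -5, 6, 7, 4, -3, -2, 0, 3, 2, 1]],
    [.tr 4 [-1] [6, 8, 2, -5, -8, 1, 8, 10, -1, -6, -5, 6, 7, 4, -3, -2, 0, 3, 2, 1]],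
    [.tr 6 [-1] [8, 8, 2, -7, -6, 1, 10, 8, 1, -6, -3, 4, 7, 4, -1, -2, 0, 3, 2, 1]],
    [],
    [.tr 10 [-1] [12, 12, 0, -10, -8, 4, 12, 10, -2, -6, -4, 6, 8, 6, -2, -2, 0, 4, 4, 2]],
    [.tr 4 [-1] [6, 8, 2, -4, -6, 2, 8, 10, 0, -4, -4, 6, 8, 6, -2, -2, 0, 4, 4, 2]],
    [.tr 6 [-1] [8, 8, 2, -6, -4, 2, 10, 8, 2, -4, -2, 4, 8, 6, 0, -2, 0, 4, 4, 2]],
    [.cls 3 4 [0, 1] [4, 4, 0, -4, -4, 0, 4, 4, 0, -4, -3, 1, 4, 2, -1, -3, -1, 1, 2, 0, -1, -1]]]),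
  (8, [[.tr 2 [1] []],
    [.tr 2 [1] [0, -2, 0, 0, 2, 0, 0, -2]],
    [.tr 2 [1] [0, 0, -2, 2, -2, 2, -2, 0, -2, 2, -2, 2, -2]],
    [.tr 2 [1] [0, -2, -2, 2, 0, 2, -2, -2, -2, 2, -2, 2, -2]],
    [],
    [.cls 1 2 [0, 0, 1] [2, 0, 0, 0, -2, 0, 0, 0, 2, 0, 0, 0, -1, 0, 0, 0, 1, 0, 0, 0, -1]],
    [.cls 2 2 [0, -1, 2, -1] [2, 0, 0, 0, -2, 0, 0, 0, 2, 0, 0, -1, 0, -1, 1, -1, 1, 1, -1, 1, -2, 1]],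
    [.cls 1 2 [0, 0, 1] [2, 0, 0, 0, -2, 0, 0, 0, 2, 0, 0, 0, -1, 0, 0, 0, 1, 0, 0, 0, -1]],
    [.tr 2 [1] [0, 0, 0, -1, -1, -2, 1, 0, 2, -3, -1, -3, 2, 0, 1, -2, -1, -1]],
    [.tr 2 [1] [0, -2, 0, -1, 1, -2, 1, -2, 2, -3, -1, -3, 2, 0, 1, -2, -1, -1]],
    [.tr 2 [1] [0, 0, -2, 1, -3, 0, -1, 0, 0, -1, -3, -1, 0, 0, 1, -2, -1, -1]],
    [.tr 2 [1] [0, -2, -2, 1, -1, 0, -1, -2, 0, -1, -3, -1, 0, 0, 1, -2, -1, -1]],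
    [.cls 4 4 [0, 1, 1] [4, 0, 0, 0, -4, 0, 0, 0, 4, 0, -1, 1, -2, -1, 1, 0, 1, 1, 0, -1, -1]],
    [.cls 1 2 [0, 0, 1] [2, 0, 0, 0, -2, 0, 0, 0, 2, 0, 0, 0, -1, 0, 0, 0, 1, 0, 0, 0, -1]],
    [.cls 4 4 [0, 1, 1] [4, 0, 0, 0, -4, 0, 0, 0, 4, 0, -1, 1, -2, -1, 1, 0, 1, 1, 0, -1, -1]],
    [.cls 1 2 [0, 0, 1] [2, 0, 0, 0, -2, 0, 0, 0, 2, 0, 0, 0, -1, 0, 0, 0, 1, 0, 0, 0, -1]]]),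
  (10, [[],
    [.cls 1 5 [-2, -1, -1, -2] [5, 5, 0, 0, 0, -5, -5, 0, 0, 0, 3, 2, -2, -3, -2, -3, -2, 2, 3, 2, 3, 2]],
    [.cls 2 5 [-3, 1, 1, -3] [5, 5, 0, 0, 0, -5, -5, 0, 0, 0, 2, 3, 2, 1, -1, -4, -1, 1, -1, -2, 2, 3]],
    [.cls 2 5 [-3, 1, 1, -3] [5, 5, 0, 0, 0, -5, -5, 0, 0, 0, 2, 3, 2, 1, -1, -4, -1, 1, -1, -2, 2, 3]],
    [.cls 3 1 [0, -1, 0, -1] [1, 1, 0, 0, 0, -1, -1, 0, 0, 0, 0, 0, -1, 0, 0, 0, -1, 0, 0, 1, 1, 1]],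
    [.cls 3 1 [0, -1, 0, -1] [1, 1, 0, 0, 0, -1, -1, 0, 0, 0, 0, 0, -1, 0, 0, 0, -1, 0, 0, 1, 1, 1]],
    [.cls 3 1 [0, -1, 0, -1] [1, 1, 0, 0, 0, -1, -1, 0, 0, 0, 0, 0, -1, 0, 0, 0, -1, 0, 0, 1, 1, 1]],
    [.cls 3 1 [0, -1, 0, -1] [1, 1, 0, 0, 0, -1, -1, 0, 0, 0, 0, 0, -1, 0, 0, 0, -1, 0, 0, 1, 1, 1]],
    [],
    [.cls 1 5 [-2, -1, -1, -2] [5, 5, 0, 0, 0, -5, -5, 0, 0, 0, 3, 2, -2, -3, -2, -3, -2, 2, 3, 2, 3, 2]],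
    [.cls 2 5 [-3, 1, 1, -3] [5, 5, 0, 0, 0, -5, -5, 0, 0, 0, 2, 3, 2, 1, -1, -4, -1, 1, -1, -2, 2, 3]],
    [.cls 2 5 [-3, 1, 1, -3] [5, 5, 0, 0, 0, -5, -5, 0, 0, 0, 2, 3, 2, 1, -1, -4, -1, 1, -1, -2, 2, 3]],
    [.cls 3 1 [0, -1, 0, -1] [1, 1, 0, 0, 0, -1, -1, 0, 0, 0, 0, 0, -1, 0, 0, 0, -1, 0, 0, 1, 1, 1]],
    [.cls 3 1 [0, -1, 0, -1] [1, 1, 0, 0, 0, -1, -1, 0, 0, 0, 0, 0, -1, 0, 0, 0, -1, 0, 0, 1, 1, 1]],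
    [.cls 3 1 [0, -1, 0, -1] [1, 1, 0, 0, 0, -1, -1, 0, 0, 0, 0, 0, -1, 0, 0, 0, -1, 0, 0, 1, 1, 1]],
    [.cls 3 1 [0, -1, 0, -1] [1, 1, 0, 0, 0, -1, -1, 0, 0, 0, 0, 0, -1, 0, 0, 0, -1, 0, 0, 1, 1, 1]]]),
  (12, [[.tr 2 [1] []],
    [.tr 4 [1] [2, -2, 2, -2, 2, -2, 0, -2]],
    [.tr 2 [1] [0, 0, -2, 2, -4, 4, -6, 4, -6, 4, -4, 2, -2]],
    [.tr 4 [1] [2, -2, 0, 0, -2, 2, -6, 2, -6, 4, -4, 2, -2]],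
    [.co 2 [0, 0, 1, 1, 2, 1, 2, 1, 2, 1, 1, 1, 1, 2, 1, 2, 1, 2, 1, 1] 4 [1, -1, -1] [4, 1, 1, 1, 1, 0, -2, 0, -2, 0, 1, -1, 1, 1]],
    [.tr 2 [1] [0, -2, 0, -3, 1, -3, 0, -3, 0, -1, 0, -1, -2, -1, -2, -1, -1, -1]],
    [.cls 2 2 [0, 1, 0, -1] [2, 0, 2, 0, 0, 0, -2, 0, -2, 0, 0, 1, 2, 0, 1, -1, 0, -1, -1, 0, 0, 1]],
    [.tr 2 [1] [0, -2, -2, -1, -3, 1, -6, 1, -6, 3, -4, 1, -4, -1, -2, -1, -1, -1]],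
    [],
    [.tr 2 [1] [0, -2, 0, -3, 1, -5, 2, -5, 4, -5, 2, -5, 2, -3, 0, -3, -1, -1]],
    [.cls 2 2 [0, 1, 0, -1] [2, 0, 2, 0, 0, 0, -2, 0, -2, 0, 0, 1, 2, 0, 1, -1, 0, -1, -1, 0, 0, 1]],
    [.tr 2 [1] [0, -2, -2, -1, -3, -1, -4, -1, -2, -1, -2, -3, 0, -3, 0, -3, -1, -1]],
    [.tr 2 [-1] [4, 0, 4, 2, 2, 4, -2, 4, -4, 6, -2, 6, 0, 4, 2, 4, 2, 2]],
    [],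
    [.tr 2 [-1] [4, 0, 6, 0, 6, 0, 4, 0, 2, 2, 2, 4, 2, 4, 2, 4, 2, 2]],
    [.cls 2 2 [0, 1, 0, -1] [2, 0, 2, 0, 0, 0, -2, 0, -2, 0, 0, 1, 2, 0, 1, -1, 0, -1, -1, 0, 0, 1]]]),
  (18, [[.tr 2 [1] []],
    [.tr 2 [1] [0, -2, 0, 0, 0, -2]],
    [],
    [.cls 1 3 [0, 0, 1, 0, 0, -2] [3, 0, 0, 3, 0, 0, 0, 0, 0, -3, 0, 0, -2, 0, 0, -1, 0, 0, 1, 0, 0, 2]],
    [.tr 2 [1] [0, 0, 0, -1, -1, 0, -2, -2, -1, -2, -1, -2, -2, 0, -1, -1]],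
    [.tr 2 [1] [0, -2, 0, -1, -1, -2, -2, -2, -1, -2, -1, -2, -2, 0, -1, -1]],
    [.cls 3 1 [0, 1, -1, 1, -1] [1, 0, 0, 1, 0, 0, 0, 0, 0, -1, 1, -1, 0, -1, 1, -1, 1, -1, 1, -1, 1]],
    [.cls 3 1 [0, 1, -1, 1, -1] [1, 0, 0, 1, 0, 0, 0, 0, 0, -1, 1, -1, 0, -1, 1, -1, 1, -1, 1, -1, 1]],
    [.tr 2 [1] [0, 0, 0, -1, -1, -2, 0, -2, -1, -4, -1, -2, 0, -2, -1, -1]],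
    [.tr 2 [1] [0, -2, 0, -1, -1, -4, 0, -2, -1, -4, -1, -2, 0, -2, -1, -1]],
    [],
    [.cls 1 3 [0, 0, 1, 0, 0, -2] [3, 0, 0, 3, 0, 0, 0, 0, 0, -3, 0, 0, -2, 0, 0, -1, 0, 0, 1, 0, 0, 2]],
    [.tr 2 [1] [0, 0, 0, -2, -2, -2, -2, -4, -2, -6, -2, -4, -2, -2, -2, -2]],
    [.tr 2 [1] [0, -2, 0, -2, -2, -4, -2, -4, -2, -6, -2, -4, -2, -2, -2, -2]],
    [.cls 3 1 [0, 1, -1, 1, -1] [1, 0, 0, 1, 0, 0, 0, 0, 0, -1, 1, -1, 0, -1, 1, -1, 1, -1, 1, -1, 1]],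
    [.cls 3 1 [0, 1, -1, 1, -1] [1, 0, 0, 1, 0, 0, 0, 0, 0, -1, 1, -1, 0, -1, 1, -1, 1, -1, 1, -1, 1]]])]

/-- the data -/
def dat : Dat 5 where
  P := FullTwEa.pol
  NQ e := ([[], [], [1, 0, 1, -1, 2, -1, 3, -2, 3, -2, 4, -2, 3, -2, 3, -1, 2, -1, 1, 0, 1], [1, 0, 0, 0, 1, 0, 1, 0, 0, 1, 1, 0, 0, 1, 0, 1, 0, 0, 0, 1], [1, 1, 0, -1, 1, 2, 1, -1, 0, 2, 2, 0, -1, 1, 2, 1, -1, 0, 1, 1], [], [1, 2, 2, 0, -1, 0, 3, 4, 2, -1, -1, 2, 4, 3, 0, -1, 0, 2, 2, 1], [], [1, 1, 1, 0, 0, 0, 1, 1, 1, 1, 1, 1, 0, 0, 0, 1, 1, 1], [], [], [], [1, 1, 2, 1, 2, 1, 2, 1, 1, 1, 1, 2, 1, 2, 1, 2, 1, 1], [], [], [], [], [], [1, 1, 1, 1, 2, 2, 2, 2, 2, 2, 2, 2, 1, 1, 1, 1]] : List (List ℤ)).getD e []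
  W c := ([[1], [1, 1], [0, 0, 1], [0, 0, 0, 0, 1, 1], [0, 0, 0, 0, 0, 0, 0, 0, 0, 1]] : List (List ℤ)).getD c []
  t c i := (([[[2], [0, 2, 0, 0, -2, 2, 0, 2, -2, 0, 0, 2], [0, 0, 2, -2, 2, -2, 4, -2, 4, -4, 4, -2, 4, -2, 2, -2, 2], [0, 0, 0, 1, 1, 0, 1, 1, 1, 1, 0, 1, 2, 1, 0, 1, 1, 1, 1, 0, 1, 1], [0, 0, 0, 1, 1, 2, -1, 1, -1, 5, 0, 3, -4, 3, 0, 5, -1, 1, -1, 2, 1, 1]],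
    [[2, 2], [-2, 0, 0, 2, -2, 0, -2, 2, 0, 0, -2], [0, -2, 2, 0, 2, -2, 2, -2, 4, 0, 2, -2, 2, 0, 2], [0, 0, -1, -1, 1, 0, -1, -1, -1, 0, 0, -1, -1, 1, 0, -1, -1, -1], [0, 0, -1, -1, -1, 2, 1, 1, -3, 0, 0, 3, -1, -1, -2, 1, 1, 1]],
    [[0, 0, 2], [2, 0, 0, -2, 2, 0, 2, -2, 0, 0, 2], [-2, 2, -2, 2, -2, 2, -4, 4, -2, 2, -2, 2, -2, 2], [0, -1, 0, 1, -1, 0, 1, 0, 0, 0, -1, 0, 1, -1, 0, 1], [0, -1, 0, -1, 1, -2, 1, -2, 2, -2, 1, -2, 1, -1, 0, -1]],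
    [[0, 0, 0, 0, 2, 2], [0, -2, 0, 0, 2, -2, 0, -2, 2, 0, 0, -2], [-2, 0, -2, 2, -2, 0, -4, 2, -2, 2, -2, 0, -2, 2], [1, 1, 1, 0, -1, 1, 1, 0, 0, 1, 1, 1, 0, -1, 1, 1], [1, 1, 1, -2, -1, -1, 3, 0, 0, -3, 1, 1, 2, -1, -1, -1]],
    [[0, 0, 0, 0, 0, 0, 0, 0, 0, 2], [0, 0, 0, 0, 2, 0, 0, -2, 2, 0, 2, -2, 0, 0, 2], [0, 0, -2, 2, -2, 2, -4, 2, -4, 4, -4, 2, -4, 2, -2, 2, -2], [-1, -1, 0, -1, -1, -1, -1, 0, -1, -2, -1, 0, -1, -1, -1, -1, 0, -1, -1], [1, 1, 2, -1, 1, -1, 5, 0, 3, -4, 3, 0, 5, -1, 1, -1, 2, 1, 1]]] : List (List (List ℤ))).getD c []).getD i []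

theorem dat_ok : dat.Ok := by decide +kernel

theorem kl : ∀ ef ∈ [(2, 3), (2, 4), (2, 8), (2, 10), (2, 12), (3, 4), (3, 6), (3, 8), (3, 10), (3, 12), (3, 18), (4, 6), (4, 8), (4, 18), (6, 8), (6, 10), (6, 12), (6, 18), (8, 10), (8, 12), (8, 18), (10, 18), (12, 18)], Kl dat tab (ef : ℕ × ℕ).1 ef.2 := by decide +kernel

end Cfsg.Agent.H632.PQ.TwEa

namespace Cfsg.Agent.H632.PQ.TwEb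

open Cfsg.Agent.H632.PQ.Arith Cfsg.Agent.H996.PQ

/-- the reasons -/
def tab : Tab 5 := [
  (2, [[.tr 2 [1] []],
    [],
    [.co 1 [1, -1, 2, -2, 3, -2, 3, -2, 3, -1, 2, 0, 0, 2, -1, 3, -2, 3, -2, 3, -2, 2, -1, 1] 32 [1] [30, -29, 28, -27, 25, -23, 22, -19, 16, -14, 11, -8, 7, -5, 3, -2, 1]],
    [],
    [.co 1 [1, -1, 2, -2, 3, -2, 3, -2, 3, -1, 2, 0, 0, 2, -1, 3, -2, 3, -2, 3, -2, 2, -1, 1] 2 [1] [0, 1, 0, 1, -3, 1, -2, 5, -2, 2, -5, 2, -1, 3, -1, 0, -1]],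
    [],
    [.co 1 [1, -1, 2, -2, 3, -2, 3, -2, 3, -1, 2, 0, 0, 2, -1, 3, -2, 3, -2, 3, -2, 2, -1, 1] 32 [1] [30, -28, 28, -26, 22, -22, 20, -14, 14, -12, 6, -6, 6, -2, 2, -2]],
    [],
    [],
    [],
    [],
    [],
    [],
    [],
    [],
    []]),
  (3, [[.tr 2 [1] []],
    [.tr 2 [-1] [4, -4, 2, 0, 0, -2, 6, -6, 4, -2, 2, -2, 4, -4, 2]],
    [],
    [.tr 4 [-1] [6, -6, 2, 3, -4, 1, 4, -4, 1, 4, -5, 4, -1, 0, -1, 4, -4, 3, -2, 1]],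
    [.tr 2 [1] [0, 0, 0, -1, 0, -1, 2, -2, 1, -4, 3, -2, 3, -4, 1, -2, 2, -1, 0, -1]],
    [.tr 2 [-1] [4, -4, 2, 1, 0, -1, 4, -4, 3, 2, -1, 0, 1, 0, 1, 2, -2, 1, 0, 1]],
    [.cls 3 12 [2, 1] [12, -12, 0, 12, -12, 0, 12, -12, 0, 10, -7, -1, 6, -4, -1, 3, -1, -1, 0, 2, -1, -1]],
    [.tr 4 [-1] [6, -6, 2, 4, -4, 2, 2, -2, 0, 8, -8, 6, -4, 4, -2, 6, -6, 4, -2, 2]],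
    [.tr 6 [1] [4, -4, 0, 4, -4, 0, 2, -2, -2, 6, -6, 2, -2, 2, -4, 6, -6, 2, -2, 2, -2, 2, -2]],
    [.tr 2 [1] [0, 0, -2, 4, -4, 2, -4, 4, -6, 8, -8, 4, -6, 6, -6, 6, -6, 2, -2, 2, -2, 2, -2]],
    [.tr 4 [1] [2, -2, 0, 1, 0, -3, 4, -4, 1, 0, 1, -4, 3, -2, -1, 2, -2, -1, 0, 1, -2, 2, -2]],
    [],
    [.tr 6 [1] [4, -4, 0, 3, -4, -1, 4, -4, -1, 2, -3, 0, 1, -2, -3, 4, -4, 1, -2, 1, -2, 2, -2]],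
    [.tr 2 [1] [0, 0, -2, 3, -4, 1, -2, 2, -5, 4, -5, 2, -3, 2, -5, 4, -4, 1, -2, 1, -2, 2, -2]],
    [.tr 4 [1] [2, -2, 0, 0, 0, -4, 6, -6, 2, -4, 4, -6, 6, -6, 0, 0, 0, -2, 0, 0, -2, 2, -2]],
    [.cls 3 12 [2, 1] [12, -12, 0, 12, -12, 0, 12, -12, 0, 10, -7, -1, 6, -4, -1, 3, -1, -1, 0, 2, -1, -1]]]),
  (4, [[.tr 2 [1] []],
    [.tr 2 [1] [0, 0, -2, 2, 0, 0, -4, 2, 0, 2, -4, 0, 0, 2, -2]],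
    [.tr 2 [1] [0, 0, 0, -1, 1, -1, 2, -2, 1, -3, 3, -2, 3, -3, 1, -2, 2, -1, 1, -1]],
    [.tr 2 [1] [0, 0, -2, 1, 1, -1, -2, 0, 1, -1, -1, -2, 3, -1, -1, -2, 2, -1, 1, -1]],
    [],
    [.cls 1 2 [0, -1] [2, 0, -2, 0, 2, 0, -2, 0, 2, 0, -2, -1, 2, 1, -1, -1, 1, 1, -1, -1, 0, 1]],
    [.cls 2 8 [-1, -1] [8, 0, -8, 0, 8, 0, -8, 0, 8, 1, -7, -1, 6, 1, -5, -2, 3, 1, -2, -1, 1, 1]],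
    [.cls 1 2 [0, -1] [2, 0, -2, 0, 2, 0, -2, 0, 2, 0, -2, -1, 2, 1, -1, -1, 1, 1, -1, -1, 0, 1]],
    [.tr 2 [1] [0, 0, 0, 0, 0, 0, -2, 0, 0, 2, -2, 0, -4, 2, 0, 2, -4, 0, -2, 2, 0, 0, -2]],
    [.tr 2 [1] [0, 0, -2, 2, 0, 0, -6, 2, 0, 4, -6, 0, -4, 4, -2, 2, -4, 0, -2, 2, 0, 0, -2]],
    [.tr 2 [1] [0, 0, 0, -1, 1, -1, 0, -2, 1, -1, 1, -2, -1, -1, 1, 0, -2, -1, -1, 1, 0, 0, -2]],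
    [.tr 2 [1] [0, 0, -2, 1, 1, -1, -4, 0, 1, 1, -3, -2, -1, 1, -1, 0, -2, -1, -1, 1, 0, 0, -2]],
    [],
    [.cls 1 2 [0, -1] [2, 0, -2, 0, 2, 0, -2, 0, 2, 0, -2, -1, 2, 1, -1, -1, 1, 1, -1, -1, 0, 1]],
    [.cls 2 8 [-1, -1] [8, 0, -8, 0, 8, 0, -8, 0, 8, 1, -7, -1, 6, 1, -5, -2, 3, 1, -2, -1, 1, 1]],
    [.cls 1 2 [0, -1] [2, 0, -2, 0, 2, 0, -2, 0, 2, 0, -2, -1, 2, 1, -1, -1, 1, 1, -1, -1, 0, 1]]]),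
  (6, [[.tr 2 [1] []],
    [.tr 6 [1] [4, 4, -2, -4, -4, 2, 2, 2, -4, -2, -2, 2, 0, 0, -2]],
    [.tr 4 [-1] [6, 6, 0, -5, -6, 1, 4, 6, -1, -2, -5, 2, 1, 4, -1, 0, -2, 1, 0, 1]],
    [.co 1 [1, 1, 1, 0, 0, 1, 2, 2, 1, 1, 1, 2, 1, 1, 1, 2, 2, 1, 0, 0, 1, 1, 1] 12 [0, -1] [12, 12, 1, -10, -10, 0, 8, 7, 0, -4, -4, 1, 2, 2, 0, 0, -1]],
    [.tr 10 [-1] [12, 12, 0, -11, -10, 3, 12, 10, -3, -8, -5, 6, 7, 4, -3, -2, 0, 3, 2, 1]],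
    [.tr 6 [-1] [8, 8, 2, -7, -6, 1, 10, 8, 1, -6, -3, 4, 7, 4, -1, -2, 0, 3, 2, 1]],
    [.tr 16 [-1] [18, 18, 0, -16, -16, 4, 16, 16, -4, -10, -10, 8, 8, 8, -4, -2, -2, 4, 2, 2]],
    [.tr 12 [-1] [14, 14, 2, -12, -12, 2, 14, 14, 0, -8, -8, 6, 8, 8, -2, -2, -2, 4, 2, 2]],
    [.tr 14 [1] [12, 12, 0, -12, -12, 0, 10, 10, -2, -10, -10, 2, 6, 6, -4, -6, -6, 2, 2, 2, -2, -2, -2], .co 1 [1, 1, 1, 0, 0, 1, 2, 2, 1, 1, 1, 2, 1, 1, 1, 2, 2, 1, 0, 0, 1, 1, 1] 86 [7, -6] [72, 84, 12, -72, -70, -10, 60, 56, 8, -48, -28, -4, 24, 14, 2, -12]],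
    [.tr 18 [1] [16, 16, -2, -16, -16, 2, 12, 12, -6, -12, -12, 4, 6, 6, -6, -6, -6, 2, 2, 2, -2, -2, -2]],
    [.tr 8 [1] [6, 6, 0, -7, -6, -1, 6, 4, -1, -8, -5, 0, 5, 2, -3, -6, -4, 1, 2, 1, -2, -2, -2]],
    [.tr 12 [1] [10, 10, -2, -11, -10, 1, 8, 6, -5, -10, -7, 2, 5, 2, -5, -6, -4, 1, 2, 1, -2, -2, -2]],
    [.tr 2 [1] [0, 0, 0, -1, -2, -3, -2, 0, 1, -2, -5, -4, -1, 2, -1, -4, -6, -1, 0, 1, -2, -2, -2]],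
    [.tr 6 [1] [4, 4, -2, -5, -6, -1, 0, 2, -3, -4, -7, -2, -1, 2, -3, -4, -6, -1, 0, 1, -2, -2, -2]],
    [.tr 4 [-1] [6, 6, 0, -4, -4, 4, 6, 6, -2, 0, 0, 6, 2, 2, 0, 4, 4, 2, 0, 0, 2, 2, 2]],
    []]),
  (8, [[],
    [.cls 1 2 [0, -1, 2, -1] [2, 0, 0, 0, -2, 0, 0, 0, 2, 0, 0, -1, 0, -1, 1, -1, 1, 1, -1, 1, -2, 1]],
    [],
    [.cls 1 2 [0, -1, 2, -1] [2, 0, 0, 0, -2, 0, 0, 0, 2, 0, 0, -1, 0, -1, 1, -1, 1, 1, -1, 1, -2, 1]],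
    [.cls 3 4 [0, 1, 1] [4, 0, 0, 0, -4, 0, 0, 0, 4, 0, -1, 1, -2, -1, 1, 0, 1, 1, 0, -1, -1]],
    [.cls 3 4 [0, 1, 1] [4, 0, 0, 0, -4, 0, 0, 0, 4, 0, -1, 1, -2, -1, 1, 0, 1, 1, 0, -1, -1]],
    [.cls 3 4 [0, 1, 1] [4, 0, 0, 0, -4, 0, 0, 0, 4, 0, -1, 1, -2, -1, 1, 0, 1, 1, 0, -1, -1]],
    [.cls 3 4 [0, 1, 1] [4, 0, 0, 0, -4, 0, 0, 0, 4, 0, -1, 1, -2, -1, 1, 0, 1, 1, 0, -1, -1]],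
    [.cls 4 2 [1, 0, 1] [2, 0, 0, 0, -2, 0, 0, 0, 2, -1, 1, -1, 0, 0, 0, 1, 0, 1, -1, 0, -1]],
    [.cls 4 2 [1, 0, 1] [2, 0, 0, 0, -2, 0, 0, 0, 2, -1, 1, -1, 0, 0, 0, 1, 0, 1, -1, 0, -1]],
    [.cls 4 2 [1, 0, 1] [2, 0, 0, 0, -2, 0, 0, 0, 2, -1, 1, -1, 0, 0, 0, 1, 0, 1, -1, 0, -1]],
    [.cls 4 2 [1, 0, 1] [2, 0, 0, 0, -2, 0, 0, 0, 2, -1, 1, -1, 0, 0, 0, 1, 0, 1, -1, 0, -1]],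
    [.cls 4 2 [1, 0, 1] [2, 0, 0, 0, -2, 0, 0, 0, 2, -1, 1, -1, 0, 0, 0, 1, 0, 1, -1, 0, -1]],
    [.cls 4 2 [1, 0, 1] [2, 0, 0, 0, -2, 0, 0, 0, 2, -1, 1, -1, 0, 0, 0, 1, 0, 1, -1, 0, -1]],
    [.cls 4 2 [1, 0, 1] [2, 0, 0, 0, -2, 0, 0, 0, 2, -1, 1, -1, 0, 0, 0, 1, 0, 1, -1, 0, -1]],
    [.cls 4 2 [1, 0, 1] [2, 0, 0, 0, -2, 0, 0, 0, 2, -1, 1, -1, 0, 0, 0, 1, 0, 1, -1, 0, -1]]]),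
  (10, [[.tr 2 [1] []],
    [.tr 2 [1] [0, 0, -2, 0, 0, 0, -2, 0, -2, 0, 0, 0, -2]],
    [.tr 2 [1] [0, 0, 0, -1, 0, -1, 1, 0, 1, -2, 0, -2, 1, 0, 1, -1, 0, -1]],
    [.tr 2 [1] [0, 0, -2, -1, 0, -1, -1, 0, -1, -2, 0, -2, -1, 0, 1, -1, 0, -1]],
    [.tr 2 [1] [0, 0, 0, -1, -2, -3, -1, 0, 1, -2, -2, -2, 1, 0, -1, -3, -2, -1]],
    [.tr 2 [1] [0, 0, -2, -1, -2, -3, -3, 0, -1, -2, -2, -2, -1, 0, -1, -3, -2, -1]],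
    [.tr 2 [1] [0, 0, 0, -2, -2, -4, 0, 0, 2, -4, -2, -4, 2, 0, 0, -4, -2, -2]],
    [.tr 2 [1] [0, 0, -2, -2, -2, -4, -2, 0, 0, -4, -2, -4, 0, 0, 0, -4, -2, -2]],
    [],
    [.cls 1 5 [-3, 1, 1, -3] [5, 5, 0, 0, 0, -5, -5, 0, 0, 0, 2, 3, 2, 1, -1, -4, -1, 1, -1, -2, 2, 3]],
    [.cls 2 5 [4, -3, 2, -1] [5, 5, 0, 0, 0, -5, -5, 0, 0, -4, 4, 6, 3, -2, 2, 2, -3, -2, -2, 1, -1, 1]],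
    [.cls 1 5 [-3, 1, 1, -3] [5, 5, 0, 0, 0, -5, -5, 0, 0, 0, 2, 3, 2, 1, -1, -4, -1, 1, -1, -2, 2, 3]],
    [],
    [.cls 1 5 [-3, 1, 1, -3] [5, 5, 0, 0, 0, -5, -5, 0, 0, 0, 2, 3, 2, 1, -1, -4, -1, 1, -1, -2, 2, 3]],
    [.cls 2 5 [4, -3, 2, -1] [5, 5, 0, 0, 0, -5, -5, 0, 0, -4, 4, 6, 3, -2, 2, 2, -3, -2, -2, 1, -1, 1]],
    [.cls 1 5 [-3, 1, 1, -3] [5, 5, 0, 0, 0, -5, -5, 0, 0, 0, 2, 3, 2, 1, -1, -4, -1, 1, -1, -2, 2, 3]]]),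
  (12, [[.tr 2 [1] []],
    [.tr 2 [1] [0, 0, -2, 2, -4, 4, -6, 4, -6, 4, -4, 2, -2]],
    [.tr 2 [1] [0, 0, 0, -1, 1, -3, 4, -5, 6, -7, 6, -7, 6, -5, 4, -3, 1, -1]],
    [.tr 2 [1] [0, 0, -2, 1, -3, 1, -2, -1, 0, -3, 2, -5, 4, -5, 4, -3, 1, -1]],
    [],
    [.cls 1 2 [0, 1, 0, -1] [2, 0, 2, 0, 0, 0, -2, 0, -2, 0, 0, 1, 2, 0, 1, -1, 0, -1, -1, 0, 0, 1]],
    [.cls 2 4 [-1, 1, 1] [4, 0, 4, 0, 0, 0, -4, 0, -4, 1, -1, 0, 2, 1, 3, -1, 1, 0, 0, -1, -1]],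
    [.cls 2 4 [-1, 1, 1] [4, 0, 4, 0, 0, 0, -4, 0, -4, 1, -1, 0, 2, 1, 3, -1, 1, 0, 0, -1, -1]],
    [.tr 2 [1] [0, 0, 0, 0, 0, 0, -2, 0, -4, 2, -4, 4, -6, 4, -6, 4, -4, 2, -4, 0, -2]],
    [.tr 2 [1] [0, 0, -2, 2, -4, 4, -8, 4, -10, 6, -8, 6, -8, 4, -6, 4, -4, 2, -4, 0, -2]],
    [.tr 2 [1] [0, 0, 0, -1, 1, -3, 2, -5, 2, -5, 2, -3, 0, -1, -2, 1, -3, 1, -4, 0, -2]],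
    [.tr 2 [1] [0, 0, -2, 1, -3, 1, -4, -1, -4, -1, -2, -1, -2, -1, -2, 1, -3, 1, -4, 0, -2]],
    [.cls 4 2 [-1, 0, 1, 1] [2, 0, 2, 0, 0, 0, -2, 0, -2, 1, -1, 0, 0, 1, 2, 0, 1, 0, 1, -1, -1, -1]],
    [.cls 1 2 [0, 1, 0, -1] [2, 0, 2, 0, 0, 0, -2, 0, -2, 0, 0, 1, 2, 0, 1, -1, 0, -1, -1, 0, 0, 1]],
    [.cls 2 4 [-1, 1, 1] [4, 0, 4, 0, 0, 0, -4, 0, -4, 1, -1, 0, 2, 1, 3, -1, 1, 0, 0, -1, -1]],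
    [.cls 2 4 [-1, 1, 1] [4, 0, 4, 0, 0, 0, -4, 0, -4, 1, -1, 0, 2, 1, 3, -1, 1, 0, 0, -1, -1]]]),
  (18, [[.tr 2 [1] []],
    [],
    [.tr 2 [1] [0, 0, 0, -1, 1, -2, 2, -2, 1, -2, 1, -2, 2, -2, 1, -1]],
    [.cls 2 3 [2, -1, -1, -1, -1, 2] [3, 0, 0, 3, 0, 0, 0, 0, 0, -5, 1, 1, -2, -1, -1, 5, -1, -1, 1, 1, 1, -2]],
    [.tr 2 [1] [0, 0, 0, -1, -1, -2, 0, -2, -1, -4, -1, -2, 0, -2, -1, -1]],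
    [],
    [.tr 2 [1] [0, 0, 0, -2, 0, -4, 2, -4, 0, -6, 0, -4, 2, -4, 0, -2]],
    [.cls 2 3 [2, -1, -1, -1, -1, 2] [3, 0, 0, 3, 0, 0, 0, 0, 0, -5, 1, 1, -2, -1, -1, 5, -1, -1, 1, 1, 1, -2]],
    [.tr 2 [1] [0, 0, 0, 0, 0, 0, -2, 0, -2, 0, -2, 0, -4, 0, -2, 0, -2, 0, -2]],
    [.cls 4 3 [1, 0, 0, -2] [3, 0, 0, 3, 0, 0, 0, 0, 0, -4, 1, 0, -1, -2, 0, 2, -1, 0, 0, 2]],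
    [.tr 2 [1] [0, 0, 0, -1, 1, -2, 0, -2, -1, -2, -1, -2, -2, -2, -1, -1, -2, 0, -2]],
    [.cls 4 3 [1, 0, 0, -2] [3, 0, 0, 3, 0, 0, 0, 0, 0, -4, 1, 0, -1, -2, 0, 2, -1, 0, 0, 2]],
    [.tr 2 [1] [0, 0, 0, -1, -1, -2, -2, -2, -3, -4, -3, -2, -4, -2, -3, -1, -2, 0, -2]],
    [.cls 4 3 [1, 0, 0, -2] [3, 0, 0, 3, 0, 0, 0, 0, 0, -4, 1, 0, -1, -2, 0, 2, -1, 0, 0, 2]],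
    [.tr 2 [1] [0, 0, 0, -2, 0, -4, 0, -4, -2, -6, -2, -4, -2, -4, -2, -2, -2, 0, -2]],
    [.cls 4 3 [1, 0, 0, -2] [3, 0, 0, 3, 0, 0, 0, 0, 0, -4, 1, 0, -1, -2, 0, 2, -1, 0, 0, 2]]])]

/-- the data -/
def dat : Dat 5 where
  P := FullTwEb.pol
  NQ e := ([[], [], [1, -1, 2, -2, 3, -2, 3, -2, 3, -1, 2, 0, 0, 2, -1, 3, -2, 3, -2, 3, -2, 2, -1, 1], [1, -1, 1, 0, 0, 1, 0, 0, 1, 1, -1, 2, -1, 1, 1, 0, 0, 1, 0, 0, 1, -1, 1], [1, 0, 0, 0, 1, 1, 0, 0, 1, 2, 0, 0, 0, 2, 1, 0, 0, 1, 1, 0, 0, 0, 1], [], [1, 1, 1, 0, 0, 1, 2, 2, 1, 1, 1, 2, 1, 1, 1, 2, 2, 1, 0, 0, 1, 1, 1], [], [], [], [1, 1, 1, 1, 1, 1, 1, 1, 1, 2, 2, 2, 1, 1, 1, 1, 1, 1, 1, 1, 1], [], [1, 0, 2, 0, 2, 1, 1, 2, 0, 3, 0, 3, 0, 2, 1, 1, 2, 0, 2, 0, 1], [], [],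 [], [], [], [1, 0, 1, 1, 1, 2, 1, 2, 2, 2, 2, 2, 1, 2, 1, 1, 1, 0, 1]] : List (List ℤ)).getD e []
  W c := ([[1], [1], [0, 0, 0, 1], [0, 0, 0, 0, 0, 1], [0, 0, 0, 0, 0, 0, 0, 0, 0, 1]] : List (List ℤ)).getD c []
  t c i := (([[[2], [0, 0, 2, -2, 2, -2, 4, -2, 4, -4, 4, -2, 4, -2, 2, -2, 2], [0, 0, 0, 1, -1, 2, -3, 3, -3, 5, -4, 5, -6, 5, -4, 5, -3, 3, -3, 2, -1, 1], [0, 0, 0, 1, 1, 2, -1, 1, -1, 5, 0, 3, -4, 3, 0, 5, -1, 1, -1, 2, 1, 1], [0, 0, 0, 0, 0, 0, 2, 0, 2, -2, 2, -2, 6, -2, 4, -4, 4, -2, 6, -2, 2, -2, 2, 0, 2]],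
    [[2], [-2, 2, 0, 2, -2, 0, -2, 4, 0, 2, -2, 0, 0, 2], [0, -1, 1, -1, 2, -2, 1, -3, 3, -2, 3, -3, 1, -2, 2, -1, 1, -1], [0, -1, -1, -1, 2, 2, 1, -3, -3, 0, 3, 3, -1, -2, -2, 1, 1, 1], [0, 0, 0, 0, -2, 0, 0, 2, 0, 0, -4, 0, 0, 2, 0, 0, -2]],
    [[0, 0, 0, 2], [-2, 2, -2, 2, -2, 2, -4, 4, -4, 4, -2, 2, -2, 2, -2, 2], [1, -1, 2, -3, 3, -3, 5, -4, 5, -6, 5, -4, 5, -3, 3, -3, 2, -1, 1], [1, -1, 0, -3, 1, -1, 3, -2, 1, -4, 1, -2, 3, -1, 1, -3, 0, -1, 1], [0, 0, 0, 2, -2, 2, -4, 2, -2, 6, -4, 4, -6, 2, -2, 4, -2, 2, -2]],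
    [[0, 0, 0, 0, 0, 2], [0, -2, 0, 0, 2, -2, 0, -4, 2, 0, 2, -2, 0, -2, 2], [-1, 1, -1, 2, -2, 1, -3, 3, -2, 3, -3, 1, -2, 2, -1, 1, -1], [1, 1, 1, -2, -2, -1, 3, 3, 0, -3, -3, 1, 2, 2, -1, -1, -1], [0, 0, 0, 0, 2, 0, 0, -2, 0, 0, 4, 0, 0, -2, 0, 0, 2]],
    [[0, 0, 0, 0, 0, 0, 0, 0, 0, 2], [0, 0, -2, 2, -2, 2, -4, 2, -4, 4, -4, 2, -4, 2, -2, 2, -2], [1, -1, 2, -3, 3, -3, 5, -4, 5, -6, 5, -4, 5, -3, 3, -3, 2, -1, 1], [1, 1, 2, -1, 1, -1, 5, 0, 3, -4, 3, 0, 5, -1, 1, -1, 2, 1, 1], [-2, 0, -2, 2, -2, 2, -6, 2, -4, 4, -4, 2, -6, 2, -2, 2, -2, 0, -2]]] : List (List (List ℤ))).getD c []).getD i []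

theorem dat_ok : dat.Ok := by decide +kernel

theorem kl : ∀ ef ∈ [(10, 12)], Kl dat tab (ef : ℕ × ℕ).1 ef.2 := by decide +kernel

end Cfsg.Agent.H632.PQ.TwEb

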