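import Cfsg.Agent.H632.PQ.TabE8n1
import Cfsg.Agent.H632.PQ.TabE8n2
import Cfsg.Agent.H632.PQ.TabE8n3
import Cfsg.Agent.H632.PQ.TabE8n4
import Cfsg.Agent.H632.PQ.TabE8n5
import Cfsg.Agent.H632.PQ.TabE8nM
import Cfsg.Agent.H996.PQ.Kr

/-!
# The large table of the spherical machine: `E₈`, node `1` (for S4612; made by a program): data

17280 states, 35 classes (helper996's packed format, two-level access).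
-/

set_option autoImplicit false
set_option maxRecDepth 20000

namespace Cfsg.Agent.H632.PQ.TabE8n

open Cfsg.Agent.H967.Sph Cfsg.Agent.H64.Dl.Sph Cfsg.Agent.H996.Eight.Cert Cfsg.Agent.H996.PQ.Big Cfsg.Agent.H632.PQ.Fast
  Cfsg.Agent.H996.PQ.Kr

theorem okB : B.Ok A 1 e where
  hA := by decide +kernel
  hc := by decide +kernel
  ho := by decide +kernel
  hv := by decide +kernel
  hw := by decide +kernel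
  hS i := match i with
    | 0 => ⟨_, _, by decide +kernel, by decide +kernel, hS0⟩
    | 1 => ⟨_, _, by decide +kernel, by decide +kernel, hS1⟩
    | 2 => ⟨_, _, by decide +kernel, by decide +kernel, hS2⟩
    | 3 => ⟨_, _, by decide +kernel, by decide +kernel, hS3⟩
    | 4 => ⟨_, _, by decide +kernel, by decide +kernel, hS4⟩
    | 5 => ⟨_, _, by decide +kernel, by decide +kernel, hS5⟩
    | 6 => ⟨_, _, by decide +kernel, by decide +kernel, hS6⟩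
    | 7 => ⟨_, _, by decide +kernel, by decide +kernel, hS7⟩
  hC i := match i with
    | 0 => fun _ => hC0
    | 1 => fun h => absurd rfl h
    | 2 => fun _ => hC2
    | 3 => fun _ => hC3
    | 4 => fun _ => hC4
    | 5 => fun _ => hC5
    | 6 => fun _ => hC6
    | 7 => fun _ => hC7
  hD := hD
  hI := hI
  hR := hR
  hQ := hQ

theorem hA2 : ∀ i, A i i = 2 := by decide +kernel

theorem hbk : Bg.IsBk B 1 (Bg.bkS 15 93 T Z) := isBkF okB (d := 15) (by decide) (by decide) hZ hU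

/-- the table -/
noncomputable def tab : Tab A 1 17280 35 := B.tab A 1 e okB hA2

def bbL : List (List (List ℤ)) := [[[], [0, 1, 1, 2, 3, 4, 5, 6, 6, 6, 6, 5, 4, 3, 2, 1, 1], [], [], [], [], [], [], [], [], [], [], [], [], [], [], [], [], [], [], [], [], [], [], [], [], [], [], [], [], [], [], [], [], []], [[1], [-1, 1, 1, 2, 3, 3, 3, 2, 1], [0, 0, 0, 0, 0, 1, 2, 4, 5, 6, 5, 4, 2, 1], [0, 0, 0, 0, 0, 0, 0, 0, 0, 0, 1, 1, 2, 2, 2, 1, 1], [], [], [], [], [], [], [], [], [], [], [], [], [], [], [], [], [], [], [], [], [], [], [], [], [], [], [], [], [], [], []], [[], [1, 1, 2, 1, 1], [-1, 0, -1, 1, 2, 4, 4, 4, 2, 1], [0, 0, 0, 0, 0, 0, 1, 2, 4, 4, 4, 2, 1], [0, 0, 0, 0, 0, 0, 0, 0, 0, 1, 1, 1], [0, 0, 0, 0, 0, 0, 0, 0, 0, 0, 1, 2, 3, 3, 2, 1], [], [], [], [0, 0, 0, 0, 0, 0, 0, 0,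 0, 0, 0, 0, 0, 0, 0, 0, 1], [], [], [], [], [], [], [], [], [], [], [], [], [], [], [], [], [], [], [], [], [], [], [], [], []], [[], [1], [0, 1, 2, 3, 2, 1], [-1, 0, -1, -1, 1, 3, 5, 5, 3, 1], [], [0, 0, 0, 0, 0, 0, 0, 1, 3, 5, 5, 3, 1], [0, 0, 0, 0, 0, 0, 0, 0, 0, 0, 1], [0, 0, 0, 0, 0, 0, 0, 0, 0, 0, 0, 1, 2, 2, 1], [0, 0, 0, 0, 0, 0, 0, 0, 0, 0, 0, 1, 1, 1], [], [0, 0, 0, 0, 0, 0, 0, 0, 0, 0, 0, 0, 0, 0, 1, 1, 1], [], [], [], [], [], [], [], [], [], [], [], [], [], [], [], [], [], [], [], [], [], [], [], []], [[], [], [1, 1, 2, 2, 3, 2, 2, 1, 1], [], [-1, 0, -1, 0, -1, 1, 1, 2, 1, 2, 1, 1], [0, 0, 0, 0, 1, 1, 2, 3, 3, 3, 3, 2, 1, 1], [], [], [], [0, 0, 0, 0, 0, 0, 0, 0, 1, 1, 2, 2, 3, 2, 2, 1, 1], [], [], [], [], [], [], [], [], [], [], [], [], [], [], [], [], [], [], [], [],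 [], [], [], [], []], [[], [], [1, 1, 1], [0, 0, 1, 2, 3, 2, 1], [0, 0, 0, 1], [-1, 0, -1, -1, 0, 2, 4, 6, 4, 2], [], [0, 0, 0, 0, 0, 0, 0, 0, 1, 2, 3, 2, 1], [0, 0, 0, 0, 0, 0, 0, 0, 0, 1, 1, 1], [0, 0, 0, 0, 0, 0, 0, 0, 1, 1, 1], [0, 0, 0, 0, 0, 0, 0, 0, 0, 0, 1, 2, 3, 2, 1], [0, 0, 0, 0, 0, 0, 0, 0, 0, 0, 0, 0, 0, 1], [0, 0, 0, 0, 0, 0, 0, 0, 0, 0, 0, 0, 0, 0, 1, 1, 1], [], [], [], [], [], [], [], [], [], [], [], [], [], [], [], [], [], [], [], [], [], []], [[], [], [], [1, 1, 2, 3, 3, 3, 3, 2, 1, 1], [], [], [-1, 0, -1, -1, 0, 0, 0, 1, 1, 0, 1], [0, 0, 0, 0, 0, 1, 2, 3, 4, 5, 5, 4, 3, 2, 1], [], [], [], [], [], [0, 0, 0, 0, 0, 0, 0, 0, 0, 0, 0, 1, 1, 1, 1, 1, 1], [], [], [], [], [], [], [], [], [], [], [], [], [], [], [], [], [], [], [], [], []], [[], [], [], [1, 1, 1, 1], [],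 [0, 0, 1, 2, 3, 3, 2, 1], [0, 0, 0, 0, 1], [-1, 0, -1, -1, -1, 1, 3, 4, 4, 3, 2], [], [], [0, 0, 0, 0, 0, 0, 0, 1, 2, 2, 2, 1], [0, 0, 0, 0, 0, 0, 0, 0, 0, 1, 1, 2, 1, 1], [0, 0, 0, 0, 0, 0, 0, 0, 0, 0, 1, 1, 2, 1, 1], [0, 0, 0, 0, 0, 0, 0, 0, 0, 0, 0, 1, 1], [], [0, 0, 0, 0, 0, 0, 0, 0, 0, 0, 0, 0, 0, 1, 1, 1, 1], [], [], [], [], [], [], [], [], [], [], [], [], [], [], [], [], [], [], []], [[], [], [], [1, 1, 2, 1, 1], [], [0, 0, 0, 1, 2, 3, 3, 2, 1], [], [], [-1, 0, -1, 0, 0, 1, 1, 2, 1, 2, 1, 1], [], [0, 0, 0, 0, 0, 0, 1, 2, 4, 4, 4, 2, 1], [], [0, 0, 0, 0, 0, 0, 0, 0, 0, 0, 1, 2, 3, 3, 2, 1], [], [], [], [], [0, 0, 0, 0, 0, 0, 0, 0, 0, 0, 0, 0, 0, 0, 0, 0, 1], [], [], [], [], [], [], [], [], [], [], [], [], [], [], [], [], []], [[], [], [1], [], [0, 1, 1, 1], [0, 0, 1, 2, 3,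 3, 2, 1], [], [], [], [-1, 0, -1, -1, 0, 1, 3, 4, 4, 2, 1], [0, 0, 0, 0, 0, 0, 0, 1, 2, 4, 4, 4, 2, 1], [], [], [], [0, 0, 0, 0, 0, 0, 0, 0, 0, 0, 1, 1, 2, 1, 1], [], [0, 0, 0, 0, 0, 0, 0, 0, 0, 0, 0, 0, 0, 1, 1, 1, 1], [], [], [], [], [], [], [], [], [], [], [], [], [], [], [], [], [], []], [[], [], [], [1], [], [0, 1, 2, 2, 1], [], [0, 0, 0, 0, 1, 2, 1], [0, 0, 0, 1, 1, 1], [0, 0, 0, 0, 1, 1, 1], [-1, 0, -1, -1, -1, 0, 3, 6, 5, 3, 1], [], [0, 0, 0, 0, 0, 0, 0, 0, 1, 3, 4, 3, 1], [0, 0, 0, 0, 0, 0, 0, 0, 0, 0, 0, 1], [0, 0, 0, 0, 0, 0, 0, 0, 0, 0, 1], [0, 0, 0, 0, 0, 0, 0, 0, 0, 0, 0, 0, 1, 1], [0, 0, 0, 0, 0, 0, 0, 0, 0, 0, 0, 1, 2, 2, 1], [], [0, 0, 0, 0, 0, 0, 0, 0, 0, 0, 0, 0, 0, 0, 1, 1, 1], [], [], [], [], [], [], [], [], [], [], [], [], [], [], [], []], [[], [], [], [],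 [], [1, 1, 1, 1], [], [0, 0, 1, 2, 4, 4, 4, 2, 1], [], [], [], [-1, 0, -1, -1, -1, 0, 0, 3, 3, 4, 3, 2, 1], [0, 0, 0, 0, 0, 0, 1, 1, 2, 1, 1], [], [], [0, 0, 0, 0, 0, 0, 0, 0, 0, 1, 2, 3, 3, 2, 1], [], [], [], [0, 0, 0, 0, 0, 0, 0, 0, 0, 0, 0, 0, 0, 1], [0, 0, 0, 0, 0, 0, 0, 0, 0, 0, 0, 0, 0, 0, 1, 1, 1], [], [], [], [], [], [], [], [], [], [], [], [], [], []], [[], [], [], [], [], [1, 1], [], [0, 0, 1, 1, 1], [0, 0, 1, 1], [], [0, 0, 0, 1, 3, 4, 3, 1], [0, 0, 0, 0, 0, 1], [-1, 0, -1, -1, -1, -1, 2, 5, 6, 4, 1], [], [], [0, 0, 0, 0, 0, 0, 0, 0, 0, 1, 2, 2, 1], [0, 0, 0, 0, 0, 0, 0, 0, 0, 1, 2, 2, 1], [0, 0, 0, 0, 0, 0, 0, 0, 0, 0, 1], [0, 0, 0, 0, 0, 0, 0, 0, 0, 0, 0, 1, 2, 2, 1], [], [], [0, 0, 0, 0, 0, 0, 0, 0, 0, 0, 0, 0, 0, 1], [], [0, 0, 0, 0, 0, 0, 0, 0, 0, 0, 0, 0, 0, 0,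 1, 1, 1], [], [], [], [], [], [], [], [], [], [], []], [[], [], [], [], [], [], [1], [0, 1, 2, 2, 2, 2, 1], [], [], [0, 0, 0, 0, 1, 1, 2, 2, 2, 1, 1], [], [], [-1, 0, -1, 0, 0, 1, 1, 2, 1, 1, 0, 1], [], [0, 0, 0, 0, 0, 0, 1, 2, 3, 4, 4, 3, 2, 1], [], [], [0, 0, 0, 0, 0, 0, 0, 0, 0, 0, 1, 1, 2, 2, 2, 1, 1], [], [], [], [], [], [], [], [], [], [], [], [], [], [], [], []], [[], [], [], [], [], [], [], [], [], [1, 1, 2, 2, 2, 1, 1], [0, 0, 0, 1, 1, 2, 2, 2, 1, 1], [], [], [], [-1, 0, -1, -1, 0, 1, 2, 3, 3, 2, 2], [], [0, 0, 0, 0, 0, 0, 0, 1, 2, 3, 4, 4, 3, 2, 1], [], [], [], [], [], [0, 0, 0, 0, 0, 0, 0, 0, 0, 0, 0, 1], [], [0, 0, 0, 0, 0, 0, 0, 0, 0, 0, 0, 0, 1, 1, 1, 1, 1], [], [], [], [], [], [], [], [], [], []], [[], [], [], [], [], [], [], [1, 1, 1], [], [], [0, 0, 1, 1, 1], [0,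 0, 0, 1, 1, 1], [0, 0, 0, 0, 1, 2, 3, 2, 1], [0, 0, 0, 1, 1, 1], [], [-1, 0, -1, -1, -1, 0, 2, 4, 4, 4, 2, 1], [], [], [0, 0, 0, 0, 0, 0, 0, 0, 1, 2, 3, 2, 1], [], [0, 0, 0, 0, 0, 0, 0, 0, 0, 0, 1, 1, 1], [], [], [0, 0, 0, 0, 0, 0, 0, 0, 0, 0, 0, 1, 2, 3, 2, 1], [], [], [0, 0, 0, 0, 0, 0, 0, 0, 0, 0, 0, 0, 0, 0, 0, 0, 1], [], [], [], [], [], [], [], []], [[], [], [], [], [], [], [], [], [], [1], [0, 1, 2, 3, 2, 1], [], [0, 0, 0, 0, 1, 2, 3, 2, 1], [], [0, 0, 0, 0, 1, 1, 1], [], [-1, 0, -1, -1, -1, 0, 1, 4, 4, 4, 3, 1], [], [0, 0, 0, 0, 0, 0, 0, 0, 1, 2, 3, 2, 1], [], [], [0, 0, 0, 0, 0, 0, 0, 0, 0, 0, 0, 1, 1, 1], [], [0, 0, 0, 0, 0, 0, 0, 0, 0, 0, 0, 0, 1, 1, 1], [0, 0, 0, 0, 0, 0, 0, 0, 0, 0, 0, 1, 1, 1], [0, 0, 0, 0, 0, 0, 0, 0, 0, 0, 0, 0, 0, 0, 1, 1, 1], [], [], [], [], [],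 [], [], [], []], [[], [], [], [], [], [], [], [], [1, 1, 1, 1], [], [], [], [0, 0, 1, 2, 4, 5, 5, 4, 2, 1], [], [], [], [], [-1, 0, -1, -1, -1, -1, 0, 1, 2, 1, 1], [0, 0, 0, 0, 0, 0, 0, 1, 2, 4, 5, 5, 4, 2, 1], [], [], [], [], [], [], [], [], [0, 0, 0, 0, 0, 0, 0, 0, 0, 0, 0, 0, 0, 1, 1, 1, 1], [], [], [], [], [], [], []], [[], [], [], [], [], [], [], [], [], [], [1, 1, 1], [], [0, 0, 1, 2, 2, 1], [0, 0, 0, 1], [], [0, 0, 0, 0, 1, 2, 2, 1], [0, 0, 0, 0, 1, 2, 2, 1], [0, 0, 0, 0, 0, 0, 1], [-1, 0, -1, -1, -1, -1, 0, 4, 6, 5, 3], [], [], [], [], [0, 0, 0, 0, 0, 0, 0, 0, 0, 1, 3, 4, 3, 1], [0, 0, 0, 0, 0, 0, 0, 0, 0, 0, 0, 1], [0, 0, 0, 0, 0, 0, 0, 0, 0, 0, 0, 0, 1, 1, 1], [], [0, 0, 0, 0, 0, 0, 0, 0, 0, 0, 0, 0, 0, 1, 1], [0, 0, 0, 0, 0, 0, 0, 0, 0, 0, 0, 0, 0, 0, 0, 1, 1], [], [],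 [], [], [], []], [[], [], [], [], [], [], [], [], [], [], [], [1, 1, 2, 3, 4, 4, 5, 4, 4, 3, 2, 1, 1], [], [], [], [], [], [], [], [-1, 0, -1, -1, -1, 0, -1, 1, 0, 1, 1, 1, 0, 1], [0, 0, 0, 0, 0, 0, 1, 1, 2, 2, 3, 3, 3, 2, 2, 1, 1], [], [], [], [], [], [], [], [], [], [], [], [], [], []], [[], [], [], [], [], [], [], [], [], [], [], [1, 1, 1, 1, 1], [], [], [], [0, 0, 1, 2, 3, 4, 4, 3, 2, 1], [], [], [], [0, 0, 0, 0, 0, 1], [-1, 0, -1, -1, -1, -1, 1, 2, 3, 3, 3, 2, 1], [], [], [0, 0, 0, 0, 0, 0, 0, 1, 1, 2, 2, 2, 1, 1], [], [], [0, 0, 0, 0, 0, 0, 0, 0, 0, 0, 1, 1, 2, 2, 2, 1, 1], [], [], [], [], [], [], [], []], [[], [], [], [], [], [], [], [], [], [], [], [], [1, 1, 2, 2, 2, 1, 1], [], [], [], [0, 0, 0, 1, 2, 3, 4, 4, 3, 2, 1], [], [], [], [], [-1, 0, -1, -1, -1, 0, -1, 1, 1, 2,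 2, 2, 1, 1], [], [0, 0, 0, 0, 0, 0, 1, 1, 2, 2, 2, 1, 1], [], [0, 0, 0, 0, 0, 0, 0, 0, 0, 0, 1, 2, 2, 2, 2, 1], [], [], [], [0, 0, 0, 0, 0, 0, 0, 0, 0, 0, 0, 0, 0, 0, 0, 0, 1], [], [], [], [], []], [[], [], [], [], [], [], [], [], [], [], [], [], [], [], [1, 1, 2, 2, 3, 3, 3, 2, 2, 1, 1], [], [], [], [], [], [], [], [-1, 0, -1, 0, -1, 0, 0, 1, 0, 1, 0, 1], [], [0, 0, 0, 0, 1, 1, 2, 3, 4, 4, 5, 4, 4, 3, 2, 1, 1], [], [], [], [], [], [], [], [], [], []], [[], [], [], [], [], [], [], [], [], [], [], [], [1, 1, 1], [], [], [0, 0, 1, 2, 2, 1], [0, 0, 0, 1, 1], [], [0, 0, 0, 0, 1, 3, 4, 3, 1], [], [0, 0, 0, 0, 0, 0, 1], [0, 0, 0, 0, 0, 1], [], [-1, 0, -1, -1, -1, -1, 0, 3, 5, 6, 4, 1], [], [0, 0, 0, 0, 0, 0, 0, 0, 0, 0, 1, 2, 1], [0, 0, 0, 0, 0, 0, 0, 0, 0, 0, 1, 1, 1], [0, 0, 0, 0, 0,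 0, 0, 0, 0, 0, 0, 1, 1, 1], [0, 0, 0, 0, 0, 0, 0, 0, 0, 0, 0, 0, 1, 2, 2, 1], [], [0, 0, 0, 0, 0, 0, 0, 0, 0, 0, 0, 0, 0, 0, 0, 0, 1], [], [], [], []], [[], [], [], [], [], [], [], [], [], [], [], [], [], [], [1, 1, 1], [], [0, 0, 1, 2, 3, 3, 2, 1], [], [0, 0, 0, 0, 0, 0, 1, 1, 2, 1, 1], [], [], [], [0, 0, 0, 1], [], [-1, 0, -1, -1, 0, 1, 2, 4, 3, 3, 1, 1], [0, 0, 0, 0, 0, 0, 0, 0, 1, 2, 4, 4, 4, 2, 1], [], [], [0, 0, 0, 0, 0, 0, 0, 0, 0, 0, 0, 0, 0, 1, 1, 1, 1], [], [], [], [], [], []], [[], [], [], [], [], [], [], [], [], [], [], [], [], [], [], [], [1, 1, 1, 1], [], [0, 0, 1, 1, 2, 1, 1], [], [], [0, 0, 0, 0, 1, 1], [], [0, 0, 0, 0, 0, 1, 2, 2, 2, 1], [0, 0, 0, 1, 1, 2, 1, 1], [-1, 0, -1, -1, -1, -1, 1, 3, 4, 4, 4, 2], [], [], [0, 0, 0, 0, 0, 0, 0, 0, 0, 1, 2, 3, 3, 2, 1], [0,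 0, 0, 0, 0, 0, 0, 0, 0, 0, 0, 0, 1], [0, 0, 0, 0, 0, 0, 0, 0, 0, 0, 0, 0, 0, 1, 1, 1, 1], [], [], [], []], [[], [], [], [], [], [], [], [], [], [], [], [], [], [], [], [1, 1, 1, 1], [], [], [], [], [0, 0, 1, 1, 2, 1, 1], [], [], [0, 0, 0, 1, 2, 4, 4, 4, 2, 1], [], [], [-1, 0, -1, -1, -1, -1, 0, 2, 4, 4, 4, 2, 1], [], [0, 0, 0, 0, 0, 0, 0, 0, 0, 1, 2, 3, 3, 2, 1], [], [], [0, 0, 0, 0, 0, 0, 0, 0, 0, 0, 0, 0, 0, 1, 1, 1], [0, 0, 0, 0, 0, 0, 0, 0, 0, 0, 0, 0, 0, 0, 0, 0, 1], [], []], [[], [], [], [], [], [], [], [], [], [], [], [], [], [], [], [], [], [1], [0, 1, 2, 3, 3, 2, 1], [], [], [], [], [0, 0, 0, 0, 1, 2, 4, 4, 4, 2, 1], [], [], [], [-1, 0, -1, -1, -1, 0, 0, 2, 1, 2, 2, 2, 1, 1], [0, 0, 0, 0, 0, 0, 0, 0, 1, 2, 3, 3, 2, 1], [], [0, 0, 0, 0, 0, 0, 0, 0, 0, 0, 0, 0, 1, 1, 2, 1,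 1], [], [], [], []], [[], [], [], [], [], [], [], [], [], [], [], [], [], [], [], [], [], [], [1, 1, 1], [], [], [], [], [0, 0, 1, 2, 3, 2, 1], [0, 0, 0, 1], [0, 0, 0, 0, 1, 2, 3, 2, 1], [0, 0, 0, 0, 0, 0, 1, 1, 1], [0, 0, 0, 0, 0, 1, 1, 1], [-1, 0, -1, -1, -1, -1, -1, 2, 4, 6, 5, 3, 1], [], [0, 0, 0, 0, 0, 0, 0, 0, 0, 0, 1, 2, 3, 2, 1], [0, 0, 0, 0, 0, 0, 0, 0, 0, 0, 0, 0, 0, 1], [0, 0, 0, 0, 0, 0, 0, 0, 0, 0, 0, 0, 0, 0, 1, 1, 1], [], []], [[], [], [], [], [], [], [], [], [], [], [], [], [], [], [], [], [], [], [], [], [], [1, 1, 1, 1, 1, 1], [], [], [], [0, 0, 1, 2, 3, 4, 5, 5, 4, 3, 2, 1], [], [], [], [-1, 0, -1, -1, -1, -1, 0, 0, 1, 1, 1, 1, 1], [0, 0, 0, 0, 0, 0, 0, 1, 1, 2, 3, 3, 3, 3, 2, 1, 1], [], [], [], []], [[], [], [], [], [], [], [], [], [], [], [], [], [], [], [],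 [], [], [], [], [], [], [], [], [1, 1, 1], [], [0, 0, 1, 2, 2, 1], [], [0, 0, 0, 1, 1, 1], [0, 0, 0, 0, 1, 3, 5, 5, 3, 1], [0, 0, 0, 0, 0, 0, 1], [-1, 0, -1, -1, -1, -1, -1, 1, 3, 5, 6, 4, 2], [], [0, 0, 0, 0, 0, 0, 0, 0, 0, 0, 0, 1, 2, 3, 2, 1], [0, 0, 0, 0, 0, 0, 0, 0, 0, 0, 0, 0, 0, 0, 0, 0, 1], []], [[], [], [], [], [], [], [], [], [], [], [], [], [], [], [], [], [], [], [], [], [], [], [], [], [], [], [1, 1, 2, 2, 3, 2, 2, 1, 1], [], [0, 0, 0, 1, 1, 2, 3, 3, 3, 3, 2, 1, 1], [], [], [-1, 0, -1, -1, -1, 0, 0, 2, 1, 2, 2, 2, 0, 1], [0, 0, 0, 0, 0, 0, 0, 0, 1, 1, 2, 2, 3, 2, 2, 1, 1], [], []], [[], [], [], [], [], [], [], [], [], [], [], [], [], [], [], [], [], [], [], [], [], [], [], [], [], [], [1], [], [0, 1, 2, 3, 3, 2, 1], [], [0, 0, 0, 0, 1, 2, 4, 4, 4, 2, 1], [0, 0, 0, 0,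 0, 1, 1, 1], [-1, 0, -1, -1, -1, -1, -1, 1, 2, 4, 5, 5, 3, 2], [0, 0, 0, 0, 0, 0, 0, 0, 0, 0, 0, 0, 1, 1, 2, 1, 1], []], [[], [], [], [], [], [], [], [], [], [], [], [], [], [], [], [], [], [], [], [], [], [], [], [], [], [], [], [], [], [], [1, 1, 2, 2, 2, 1, 1], [], [0, 0, 0, 1, 2, 4, 5, 6, 5, 4, 2, 1], [-1, 0, -1, -1, -1, -1, -1, 0, 1, 2, 4, 4, 4, 3, 2, 1], [0, 0, 0, 0, 0, 0, 0, 0, 0, 0, 0, 0, 0, 0, 0, 0, 1]], [[], [], [], [], [], [], [], [], [], [], [], [], [], [], [], [], [], [], [], [], [], [], [], [], [], [], [], [], [], [], [], [], [], [1, 1, 2, 3, 4, 5, 6, 6, 6, 6, 5, 4, 3, 2, 1, 1], [-1, 0, -1, -1, -1, -1, -1, 0, 0, 0, 1, 1, 1, 1, 1, 0, 1]]]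

def bb (c c' : Fin 35) : List ℤ := (bbL.getD c []).getD c' []

theorem hB1 : ∀ r c, vz 0x20000 (kk r) * vz 0x20000 (bb r c) = vz 0x20000 [1, 1, 2, 3, 4, 5, 6, 6, 6, 6, 5, 4, 3, 2, 1, 1] * vz 0x20000 (mat r c) ∧
    n1 (kk r) * n1 (bb r c) + n1 [1, 1, 2, 3, 4, 5, 6, 6, 6, 6, 5, 4, 3, 2, 1, 1] * n1 (mat r c) < 0x20000 := by decide +kernel

theorem hB (r c : Fin 35) : pEq (pMul (kk r) (bb r c)) (pMul [1, 1, 2, 3, 4, 5, 6, 6, 6, 6, 5, 4, 3, 2, 1, 1] (mat r c)) = true :=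
  pEq_of (X := 0x20000) (by rw [vz_pMul, vz_pMul]; exact (hB1 r c).1) (n1_pMul _ _) (n1_pMul _ _) (hB1 r c).2

/-- the data -/
noncomputable def data : Data A 1 17280 35 where
  t := tab
  e := e
  wl := B.wl
  mat := mat
  kk := kk
  ff := [1, 1, 2, 3, 4, 5, 6, 6, 6, 6, 5, 4, 3, 2, 1, 1]
  bb := bb
  chkM := hbk.chkM okB hA2 hmat
  chkK := hbk.chkK okB hA2 hkk
  chkF := by decide +kernel
  chkP := by decide +kernel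
  chkB := hB
  wo := okB.hw
  ws := okB.wl_st

theorem cls_o : data.t.cls data.t.o = 0 := by decide +kernel

end Cfsg.Agent.H632.PQ.TabE8n
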