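import Cfsg.Agent.H809.PQ.LinearTest
import Cfsg.Agent.CharactersDeep.MackeyLinear
import Mathlib.RingTheory.RootsOfUnity.Complex

/-!
# S4612, linear characters: the abstract test (helper632)

* `exists_theta` : a linear character of a finite cyclic group, of `p`-power order, trivial exactly at the elements of
  order prime to `p`;
* `dvd_orderOf_mul_iff` : translation by a `p`-element central modulo an `r`-group preserves the `l`-singular elements;
* `not_same` : `H ≤ G`, `lam : H →* C`, `C` finite cyclic; `not_same'` : without the hypothesis that `z` is a `p`-element.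
-/

set_option autoImplicit false

open Cfsg

namespace Cfsg.Agent.H632.PQ

open Cfsg.Agent.H317.PQ

universe u v

/-- a linear character of `p`-power order, trivial exactly at the elements of order prime to `p` -/
theorem exists_theta {p : ℕ} (hp : p.Prime) (C : Type*) [CommGroup C] [Finite C] [IsCyclic C] :
    ∃ θ : C →* ℂˣ, (∀ c, ∃ k : ℕ, θ c ^ p ^ k = 1) ∧ ∀ c, θ c ≠ 1 ↔ p ∣ orderOf c := by
  have : Fintype C := Fintype.ofFinite C
  set n := Nat.card C with hn
  have hn0 : n ≠ 0 := Nat.card_pos.ne'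
  have : NeZero n := ⟨hn0⟩
  have hcard : Nat.card (rootsOfUnity n ℂ) = Nat.card C := Complex.card_rootsOfUnity n
  let e : C ≃* rootsOfUnity n ℂ := mulEquivOfCyclicCardEq hcard.symm
  obtain ⟨k, m, hm, hkm⟩ := Nat.exists_eq_pow_mul_and_not_dvd hn0 p hp.ne_one
  refine ⟨((rootsOfUnity n ℂ).subtype.comp e.toMonoidHom).comp (powMonoidHom m), fun c => ⟨k, ?_⟩, fun c => ?_⟩
  · rw [← map_pow]
    have : c ^ n = 1 := pow_card_eq_one'
    have h1 : powMonoidHom m (c ^ p ^ k) = 1 := by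
      rw [powMonoidHom_apply, ← pow_mul, ← hkm, this]
    rw [MonoidHom.comp_apply, h1, map_one]
  · rw [MonoidHom.comp_apply, powMonoidHom_apply]
    have h1 : ((rootsOfUnity n ℂ).subtype.comp e.toMonoidHom) (c ^ m) = 1 ↔ c ^ m = 1 := by
      rw [MonoidHom.comp_apply]
      constructor
      · intro h
        have h2 : e (c ^ m) = 1 := Subtype.ext h
        exact (map_eq_one_iff e e.injective).1 h2
      · intro h
        rw [h, map_one, map_one]
    rw [Ne, h1, ← orderOf_dvd_iff_pow_eq_one]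
    constructor
    · intro h
      by_contra hpc
      apply h
      have h2 : orderOf c ∣ p ^ k * m := by
        rw [← hkm, hn]
        exact orderOf_dvd_natCard c
      exact (((Nat.Prime.coprime_iff_not_dvd hp).2 hpc).symm.pow_right k).dvd_of_dvd_mul_left h2
    · intro h h2
      exact hm (h.trans h2)

/-- translation by a commuting `p`-element -/
theorem dvd_orderOf_mul_of_commute {G : Type*} [Group G] [Finite G] {p l k : ℕ} (hp : p.Prime) (hl : l.Prime) (hpl : p ≠ l) {x z : G}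
    (hxz : Commute x z) (hz : z ^ p ^ k = 1) (h : l ∣ orderOf x) : l ∣ orderOf (x * z) := by
  by_contra h1
  have h2 : x ^ (orderOf (x * z) * p ^ k) = 1 := by
    have h3 : (x * z) ^ (orderOf (x * z) * p ^ k) = 1 := by
      rw [pow_mul, pow_orderOf_eq_one, one_pow]
    rw [hxz.mul_pow, mul_comm (orderOf _) (p ^ k), pow_mul z, hz, one_pow, mul_one, mul_comm (p ^ k)] at h3
    exact h3
  have h3 : l ∣ orderOf (x * z) * p ^ k := h.trans (orderOf_dvd_of_pow_eq_one h2)
  rcases hl.dvd_mul.1 h3 with h4 | h4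
  · exact h1 h4
  · exact hpl ((Nat.prime_dvd_prime_iff_eq hl hp).1 (hl.dvd_of_dvd_pow h4)).symm

/-- the order modulo an `r`-group -/
theorem dvd_orderOf_iff_mk {G : Type*} [Group G] [Finite G] {r l : ℕ} [hr : Fact r.Prime] (hl : l.Prime) (hrl : r ≠ l)
    (N : Subgroup G) [N.Normal] (hN : IsPGroup r ↥N) (x : G) : l ∣ orderOf (QuotientGroup.mk x : G ⧸ N) ↔ l ∣ orderOf x := by
  constructor
  · intro h
    exact h.trans (orderOf_map_dvd (QuotientGroup.mk' N) x)
  · intro h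
    have h1 : x ^ orderOf (QuotientGroup.mk x : G ⧸ N) ∈ N := by
      rw [← QuotientGroup.eq_one_iff, QuotientGroup.mk_pow, pow_orderOf_eq_one]
    obtain ⟨k, hk⟩ := hN ⟨_, h1⟩
    have h2 : x ^ (orderOf (QuotientGroup.mk x : G ⧸ N) * r ^ k) = 1 := by
      rw [pow_mul]
      exact congrArg Subtype.val hk
    rcases hl.dvd_mul.1 (h.trans (orderOf_dvd_of_pow_eq_one h2)) with h4 | h4
    · exact h4
    · exact absurd ((Nat.prime_dvd_prime_iff_eq hl hr.out).1 (hl.dvd_of_dvd_pow h4)).symm hrl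

/-- translation by a `p`-element central modulo an `r`-group -/
theorem dvd_orderOf_mul_iff {G : Type*} [Group G] [Finite G] {p r l : ℕ} [hr : Fact r.Prime] (hp : p.Prime) (hl : l.Prime)
    (hpl : p ≠ l) (hrl : r ≠ l) (N : Subgroup G) [N.Normal] (hN : IsPGroup r ↥N) (z : G) (hz : ∃ k : ℕ, z ^ p ^ k = 1)
    (hc : ∀ h : G, h * z * h⁻¹ * z⁻¹ ∈ N) (x : G) : l ∣ orderOf (x * z) ↔ l ∣ orderOf x := by
  obtain ⟨k, hk⟩ := hz
  rw [← dvd_orderOf_iff_mk hl hrl N hN x, ← dvd_orderOf_iff_mk hl hrl N hN (x * z), QuotientGroup.mk_mul]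
  have h1 : Commute (QuotientGroup.mk x : G ⧸ N) (QuotientGroup.mk z) := by
    show (QuotientGroup.mk x : G ⧸ N) * QuotientGroup.mk z = QuotientGroup.mk z * QuotientGroup.mk x
    rw [← mul_inv_eq_one, mul_inv_rev, ← QuotientGroup.mk_mul, ← QuotientGroup.mk_inv, ← QuotientGroup.mk_inv,
      ← QuotientGroup.mk_mul, ← QuotientGroup.mk_mul, QuotientGroup.eq_one_iff, ← mul_assoc]
    exact hc x
  have h2 : (QuotientGroup.mk z : G ⧸ N) ^ p ^ k = 1 := by
    rw [← QuotientGroup.mk_pow, hk, QuotientGroup.mk_one]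
  have h3 : (QuotientGroup.mk z : G ⧸ N)⁻¹ ^ p ^ k = 1 := by rw [inv_pow, h2, inv_one]
  constructor
  · intro h
    have h4 : Commute ((QuotientGroup.mk x : G ⧸ N) * QuotientGroup.mk z) (QuotientGroup.mk z)⁻¹ :=
      (h1.mul_left (Commute.refl _)).inv_right
    have h5 := dvd_orderOf_mul_of_commute hp hl hpl h4 h3 h
    rwa [mul_inv_cancel_right] at h5
  · exact dvd_orderOf_mul_of_commute hp hl hpl h1 h2

/-- **The test**: a linear character of `H ≤ G` of `p`-power order inducing an irreducible character of `G`, and a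
`p`-element of `H`, not in its kernel, central modulo a normal `r`-subgroup of `H`. -/
theorem not_same {G : Type u} [Group G] [Finite G] {p l r : ℕ} [hr : Fact r.Prime] (hp : p.Prime) (hl : l.Prime)
    (hpl : p ≠ l) (hrl : r ≠ l) (H : Subgroup G) {C : Type*} [CommGroup C] [Finite C] [IsCyclic C] (lam : ↥H →* C)
    (hm : ∀ x : G, x ∉ H → ∃ (t : ↥H) (hx : x⁻¹ * t * x ∈ H), p ∣ orderOf (lam t / lam ⟨x⁻¹ * t * x, hx⟩))
    (N : Subgroup ↥H) [N.Normal] (hN : IsPGroup r ↥N) (z : ↥H) (hz : ∃ k : ℕ, z ^ p ^ k = 1)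
    (hc : ∀ h : ↥H, h * z * h⁻¹ * z⁻¹ ∈ N) (hzl : p ∣ orderOf (lam z)) : ¬ Same p l G := by
  classical
  have : Fintype G := Fintype.ofFinite G
  obtain ⟨θ, hθ1, hθ2⟩ := exists_theta hp C
  have hirr := Cfsg.Agent.CharactersDeep.MackeyLinear.isIrrCharacter_indFun H (θ.comp lam) (fun x hx => by
    obtain ⟨t, hxt, hd⟩ := hm x hx
    refine ⟨t, hxt, fun he => ?_⟩
    rw [MonoidHom.comp_apply, MonoidHom.comp_apply] at he
    have h1 := (hθ2 _).2 hd
    apply h1
    rw [map_div, he, div_self'])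
  refine H809.PQ.linear_test hp hl H (θ.comp lam) (fun h => hθ1 _) ⟨_, hirr⟩ (fun g => ?_) z ((hθ2 _).2 hzl)
    (dvd_orderOf_mul_iff hp hl hpl hrl N hN z hz hc)
  show indFun H _ g = _
  rw [indFun]
  congr 1
  rw [finsum_eq_sum_of_fintype, ← Finset.sum_filter_add_sum_filter_not Finset.univ (fun x : G => x⁻¹ * g * x ∈ H)]
  have h0 : ∑ x : G with ¬ x⁻¹ * g * x ∈ H, extendByZero H (fun t => (((θ.comp lam) t : ℂˣ) : ℂ)) (x⁻¹ * g * x) = 0 := by
    refine Finset.sum_eq_zero fun x hx => ?_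
    simp only [Finset.mem_filter, Finset.mem_univ, true_and] at hx
    exact Cfsg.Agent.OddOrderCharacters.Clifford.ext_apply_not_mem H _ _ hx
  rw [h0, add_zero]
  rw [Finset.sum_subtype (Finset.univ.filter fun x : G => x⁻¹ * g * x ∈ H) (p := fun x : G => x⁻¹ * g * x ∈ H)
    (fun x => by simp) (fun x => extendByZero H (fun t => (((θ.comp lam) t : ℂˣ) : ℂ)) (x⁻¹ * g * x))]
  refine Finset.sum_congr rfl fun x _ => ?_
  exact Cfsg.Agent.OddOrderCharacters.Clifford.ext_apply_mem H _ _ x.2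

theorem dvd_orderOf_pow {C : Type*} [Monoid C] {p m : ℕ} (hp : p.Prime) {x : C} (h : p ∣ orderOf x) (hm : ¬ p ∣ m) :
    p ∣ orderOf (x ^ m) := by
  by_contra h1
  have h2 : x ^ (m * orderOf (x ^ m)) = 1 := by rw [pow_mul, pow_orderOf_eq_one]
  rcases hp.dvd_mul.1 (h.trans (orderOf_dvd_of_pow_eq_one h2)) with h3 | h3
  · exact hm h3
  · exact h1 h3

/-- the test, `z` need not be a `p`-element -/
theorem not_same' {G : Type u} [Group G] [Finite G] {p l r : ℕ} [hr : Fact r.Prime] (hp : p.Prime) (hl : l.Prime)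
    (hpl : p ≠ l) (hrl : r ≠ l) (H : Subgroup G) {C : Type*} [CommGroup C] [Finite C] [IsCyclic C] (lam : ↥H →* C)
    (hm : ∀ x : G, x ∉ H → ∃ (t : ↥H) (hx : x⁻¹ * t * x ∈ H), p ∣ orderOf (lam t / lam ⟨x⁻¹ * t * x, hx⟩))
    (N : Subgroup ↥H) [N.Normal] (hN : IsPGroup r ↥N) (z : ↥H)
    (hc : ∀ h : ↥H, h * z * h⁻¹ * z⁻¹ ∈ N) (hzl : p ∣ orderOf (lam z)) : ¬ Same p l G := by
  obtain ⟨k, m, hm', hkm⟩ := Nat.exists_eq_pow_mul_and_not_dvd (orderOf_pos z).ne' p hp.ne_one
  refine not_same hp hl hpl hrl H lam hm N hN (z ^ m) ⟨k, ?_⟩ (fun h => ?_) ?_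
  · rw [← pow_mul, mul_comm, ← hkm, pow_orderOf_eq_one]
  · have h1 : ∀ x : ↥H, (QuotientGroup.mk h : ↥H ⧸ N) * QuotientGroup.mk z = QuotientGroup.mk z * QuotientGroup.mk h := by
      intro _
      rw [← mul_inv_eq_one, mul_inv_rev, ← QuotientGroup.mk_mul, ← QuotientGroup.mk_inv, ← QuotientGroup.mk_inv,
        ← QuotientGroup.mk_mul, ← QuotientGroup.mk_mul, QuotientGroup.eq_one_iff, ← mul_assoc]
      exact hc h
    have h2 : Commute (QuotientGroup.mk h : ↥H ⧸ N) (QuotientGroup.mk z ^ m) := Commute.pow_right (h1 1) m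
    rw [← QuotientGroup.eq_one_iff, QuotientGroup.mk_mul, QuotientGroup.mk_mul, QuotientGroup.mk_mul, QuotientGroup.mk_inv,
      QuotientGroup.mk_inv, QuotientGroup.mk_pow, h2.eq, mul_inv_cancel_right, mul_inv_cancel]
  · rw [map_pow]
    exact dvd_orderOf_pow hp hzl hm'

end Cfsg.Agent.H632.PQ
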