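import Cfsg.Agent.H996.PQ.SepX
import Cfsg.Agent.H317.PQ.Exc

/-!
# The arithmetic of the tests for principal blocks (helper632, for S4612)

`Dat m`: the polynomials of a parabolic subgroup with auxiliary data; `Rs m`: a reason for `p ∣ r`, given that
`S = {i | χ i ∈ B0 p G}` passes the tests and `ord x p = e`; `Bad`: the set `S` (a mask `k`) does not occur for any
odd prime `p` of order `e`.
-/

set_option autoImplicit false

namespace Cfsg.Agent.H632.PQ.Arith

open Cfsg.Agent.H996.PQ Cfsg.Agent.H996.Eight.Cert Cfsg.Agent.H64.Dl.Sph Cfsg.Agent.H317.PQ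

/-! ### polynomials -/

theorem evZ_of_pEq (x : ℤ) {p q : List ℤ} (h : pEq p q = true) : evZ x p = evZ x q := by
  have h1 := ev_of_pEq (x : ℚ) h
  rw [← evZ_cast, ← evZ_cast] at h1
  exact_mod_cast h1

theorem evZ_pMul (x : ℤ) (p q : List ℤ) : evZ x (pMul p q) = evZ x p * evZ x q := by
  have h1 := ev_pMul (x : ℚ) p q
  rw [← evZ_cast, ← evZ_cast, ← evZ_cast] at h1
  exact_mod_cast h1

theorem evZ_pAdd (x : ℤ) (p q : List ℤ) : evZ x (pAdd p q) = evZ x p + evZ x q := by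
  have h1 := ev_pAdd (x : ℚ) p q
  rw [← evZ_cast, ← evZ_cast, ← evZ_cast] at h1
  exact_mod_cast h1

theorem evZ_pScale (x : ℤ) (c : ℤ) (p : List ℤ) : evZ x (pScale c p) = c * evZ x p := by
  have h1 := ev_pScale (x : ℚ) c p
  rw [← evZ_cast, ← evZ_cast] at h1
  exact_mod_cast h1

/-- the cyclotomic polynomials which are used -/
def Phi (e : ℕ) : List ℤ :=
  (([[], [-1, 1], [1, 1], [1, 1, 1], [1, 0, 1], [1, 1, 1, 1, 1], [1, -1, 1], [1, 1, 1, 1, 1, 1, 1], [1, 0, 0, 0, 1],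
    [1, 0, 0, 1, 0, 0, 1], [1, -1, 1, -1, 1], [], [1, 0, -1, 0, 1], [], [1, -1, 1, -1, 1, -1, 1],
    [1, -1, 0, 1, -1, 1, 0, -1, 1], [], [], [1, 0, 0, -1, 0, 0, 1], [], [1, 0, -1, 0, 1, 0, -1, 0, 1], [], [], [],
    [1, 0, 0, 0, -1, 0, 0, 0, 1], [], [], [], [], [], [1, 1, 0, -1, -1, -1, 0, 1, 1]] : List (List ℤ))).getD e []

/-- a multiple of `Phi e` which is a product of `x ^ d - 1`, `d` proper divisors, up to `x ^ e - 1` -/
theorem dvd_of_ord {x p e : ℕ} (hp : p.Prime) (he : ord x p = e) {ds : List ℕ} (hds : ∀ d ∈ ds, ¬ e ∣ d) {A B : ℤ}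
    (h : A * (ds.map fun d => (x : ℤ) ^ d - 1).prod = ((x : ℤ) ^ e - 1) * B) : (p : ℤ) ∣ A := by
  have hpZ : Prime (p : ℤ) := Nat.prime_iff_prime_int.1 hp
  have : Fact p.Prime := ⟨hp⟩
  have key : ∀ d : ℕ, (p : ℤ) ∣ (x : ℤ) ^ d - 1 ↔ e ∣ d := by
    intro d
    rw [← he, ord, orderOf_dvd_iff_pow_eq_one, ← ZMod.intCast_zmod_eq_zero_iff_dvd]
    push_cast
    rw [sub_eq_zero]
  have h1 : (p : ℤ) ∣ A * (ds.map fun d => (x : ℤ) ^ d - 1).prod := by
    rw [h]
    exact Dvd.dvd.mul_right ((key e).2 dvd_rfl) _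
  rcases hpZ.dvd_or_dvd h1 with h2 | h2
  · exact h2
  · exfalso
    obtain ⟨d, hd, h3⟩ := (Prime.dvd_prod_iff hpZ).1 h2
    obtain ⟨d', hd', rfl⟩ := List.mem_map.1 hd
    exact hds d' hd' ((key d').1 h3)

/-- `p` divides the value of the cyclotomic polynomial of the order of `x` -/
theorem dvd_Phi {x p e : ℕ} (hp : p.Prime) (he : ord x p = e)
    (hm : e ∈ [2, 3, 4, 5, 6, 7, 8, 9, 10, 12, 14, 15, 18, 20, 24, 30]) : (p : ℤ) ∣ evZ x (Phi e) := by
  have one : ∀ {ds : List ℕ} (B : ℤ), (∀ d ∈ ds, ¬ e ∣ d) →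
      evZ x (Phi e) * (ds.map fun d => (x : ℤ) ^ d - 1).prod = ((x : ℤ) ^ e - 1) * B → (p : ℤ) ∣ evZ x (Phi e) :=
    fun B hds h => dvd_of_ord hp he hds h
  simp only [List.mem_cons, List.not_mem_nil, or_false] at hm
  rcases hm with rfl | rfl | rfl | rfl | rfl | rfl | rfl | rfl | rfl | rfl | rfl | rfl | rfl | rfl | rfl | rfl
  · refine one (ds := [1]) 1 (by decide) ?_
    show evZ x [1, 1] * _ = _
    simp only [evZ, List.map_cons, List.map_nil, List.prod_cons, List.prod_nil]; ring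
  · refine one (ds := [1]) 1 (by decide) ?_
    show evZ x [1, 1, 1] * _ = _
    simp only [evZ, List.map_cons, List.map_nil, List.prod_cons, List.prod_nil]; ring
  · refine one (ds := [2]) 1 (by decide) ?_
    show evZ x [1, 0, 1] * _ = _
    simp only [evZ, List.map_cons, List.map_nil, List.prod_cons, List.prod_nil]; ring
  · refine one (ds := [1]) 1 (by decide) ?_
    show evZ x [1, 1, 1, 1, 1] * _ = _
    simp only [evZ, List.map_cons, List.map_nil, List.prod_cons, List.prod_nil]; ring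
  · refine one (ds := [2, 3]) ((x : ℤ) - 1) (by decide) ?_
    show evZ x [1, -1, 1] * _ = _
    simp only [evZ, List.map_cons, List.map_nil, List.prod_cons, List.prod_nil]; ring
  · refine one (ds := [1]) 1 (by decide) ?_
    show evZ x [1, 1, 1, 1, 1, 1, 1] * _ = _
    simp only [evZ, List.map_cons, List.map_nil, List.prod_cons, List.prod_nil]; ring
  · refine one (ds := [4]) 1 (by decide) ?_
    show evZ x [1, 0, 0, 0, 1] * _ = _
    simp only [evZ, List.map_cons, List.map_nil, List.prod_cons, List.prod_nil]; ring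
  · refine one (ds := [3]) 1 (by decide) ?_
    show evZ x [1, 0, 0, 1, 0, 0, 1] * _ = _
    simp only [evZ, List.map_cons, List.map_nil, List.prod_cons, List.prod_nil]; ring
  · refine one (ds := [5, 2]) ((x : ℤ) - 1) (by decide) ?_
    show evZ x [1, -1, 1, -1, 1] * _ = _
    simp only [evZ, List.map_cons, List.map_nil, List.prod_cons, List.prod_nil]; ring
  · refine one (ds := [6, 4]) ((x : ℤ) ^ 2 - 1) (by decide) ?_
    show evZ x [1, 0, -1, 0, 1] * _ = _
    simp only [evZ, List.map_cons, List.map_nil, List.prod_cons, List.prod_nil]; ring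
  · refine one (ds := [7, 2]) ((x : ℤ) - 1) (by decide) ?_
    show evZ x [1, -1, 1, -1, 1, -1, 1] * _ = _
    simp only [evZ, List.map_cons, List.map_nil, List.prod_cons, List.prod_nil]; ring
  · refine one (ds := [5, 3]) ((x : ℤ) - 1) (by decide) ?_
    show evZ x [1, -1, 0, 1, -1, 1, 0, -1, 1] * _ = _
    simp only [evZ, List.map_cons, List.map_nil, List.prod_cons, List.prod_nil]; ring
  · refine one (ds := [9, 6]) ((x : ℤ) ^ 3 - 1) (by decide) ?_
    show evZ x [1, 0, 0, -1, 0, 0, 1] * _ = _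
    simp only [evZ, List.map_cons, List.map_nil, List.prod_cons, List.prod_nil]; ring
  · refine one (ds := [10, 4]) ((x : ℤ) ^ 2 - 1) (by decide) ?_
    show evZ x [1, 0, -1, 0, 1, 0, -1, 0, 1] * _ = _
    simp only [evZ, List.map_cons, List.map_nil, List.prod_cons, List.prod_nil]; ring
  · refine one (ds := [12, 8]) ((x : ℤ) ^ 4 - 1) (by decide) ?_
    show evZ x [1, 0, 0, 0, -1, 0, 0, 0, 1] * _ = _
    simp only [evZ, List.map_cons, List.map_nil, List.prod_cons, List.prod_nil]; ring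
  · refine one (ds := [15, 10, 6]) (((x : ℤ) ^ 5 - 1) * ((x : ℤ) ^ 3 - 1) * ((x : ℤ) + 1)) (by decide) ?_
    show evZ x [1, 1, 0, -1, -1, -1, 0, 1, 1] * _ = _
    simp only [evZ, List.map_cons, List.map_nil, List.prod_cons, List.prod_nil]; ring

theorem mod_of_ord {x p e : ℕ} (hp : p.Prime) (he : ord x p = e) (he0 : e ≠ 0) : p % e = 1 % e := by
  have : Fact p.Prime := ⟨hp⟩
  have hx : (x : ZMod p) ≠ 0 := by
    intro h0
    apply he0
    rw [← he, ord, h0, orderOf_eq_zero_iff']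
    intro n hn h1
    rw [zero_pow hn.ne'] at h1
    exact zero_ne_one h1
  have h1 : e ∣ p - 1 := by
    rw [← he]
    exact ZMod.orderOf_dvd_card_sub_one hx
  exact ((Nat.modEq_iff_dvd' hp.one_lt.le).2 h1).symm

/-! ### the checker -/

/-- no prime divisor of `R` is `1` modulo `e` -/
def chkR (R e : ℕ) : Bool := R != 0 && e != 0 && (List.range (R + 1)).all fun d =>
  d % e != 1 % e || R % d != 0 || d == 1 || (List.range d).any fun c => 1 < c && d % c == 0

theorem chkR_spec {R e : ℕ} (h : chkR R e = true) {x p : ℕ} (hp : p.Prime) (he : ord x p = e) : ¬ p ∣ R := by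
  intro hpR
  simp only [chkR, Bool.and_eq_true, bne_iff_ne, ne_eq, List.all_eq_true, List.mem_range, Bool.or_eq_true,
    beq_iff_eq, List.any_eq_true, decide_eq_true_eq] at h
  obtain ⟨⟨h1, h2⟩, h3⟩ := h
  rcases h3 p (Nat.lt_succ_of_le (Nat.le_of_dvd (Nat.pos_of_ne_zero h1) hpR)) with ((h4 | h4) | h4) | h4
  · exact h4 (mod_of_ord hp he h2)
  · exact h4 (Nat.mod_eq_zero_of_dvd hpR)
  · exact hp.one_lt.ne' h4
  · obtain ⟨c, hc, hc1, hc2⟩ := h4
    rcases (Nat.dvd_prime hp).1 (Nat.dvd_of_mod_eq_zero hc2) with h5 | h5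
    · omega
    · omega

variable {m : ℕ}

/-- the polynomials with auxiliary data: `N = Phi e * NQ e` (if `Phi e ∣ N`); `t c i` the value of
`2 W_c deg_i sph_i(c)` -/
structure Dat (m : ℕ) where
  P : Pol m
  NQ : ℕ → List ℤ
  W : Fin m → List ℤ
  t : Fin m → Fin m → List ℤ

/-- the data are correct -/
def Dat.Ok (D : Dat m) : Prop :=
  (∀ i, D.P.den i ≠ 0 ∧ 2 % D.P.den i = 0 ∧ pPos (D.P.nu i D.P.o) = true) ∧
  ∀ c i, pEq (pScale (D.P.den i) (pMul (D.t c i) (D.P.nu i D.P.o)))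
    (pScale 2 (pMul (D.W c) (pMul (D.P.dn i) (D.P.nu i c)))) = true

instance (D : Dat m) : Decidable D.Ok := by unfold Dat.Ok; infer_instance

/-- the sum over a mask -/
def pS (k : ℕ) (f : Fin m → List ℤ) : List ℤ :=
  (List.finRange m).foldr (fun (i : Fin m) p => if k.testBit i then pAdd (f i) p else p) []

theorem evZ_pS (x : ℤ) {k : ℕ} {S : Finset (Fin m)} (hS : ∀ i : Fin m, i ∈ S ↔ k.testBit i = true)
    (f : Fin m → List ℤ) : evZ x (pS k f) = ∑ i ∈ S, evZ x (f i) := by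
  have key : ∀ l : List (Fin m), evZ x (l.foldr (fun (i : Fin m) p => if k.testBit i then pAdd (f i) p else p) []) =
      (l.map fun i : Fin m => if i ∈ S then evZ x (f i) else 0).sum := by
    intro l
    induction l with
    | nil => rfl
    | cons i l ih =>
      rw [List.foldr_cons, List.map_cons, List.sum_cons]
      by_cases h : i ∈ S
      · rw [if_pos ((hS i).1 h), if_pos h, evZ_pAdd, ih]
      · rw [if_neg (fun h1 => h ((hS i).2 h1)), if_neg h, ih, zero_add]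
  rw [pS, key, ← List.ofFn_eq_map, List.sum_ofFn, Finset.sum_ite_mem, Finset.univ_inter]

/-- the sum of the degrees, times `2` -/
def Dat.T (D : Dat m) (k : ℕ) : List ℤ := pS k fun i => pScale ((2 / D.P.den i : ℕ) : ℤ) (D.P.dn i)

/-- a reason for `p ∣ r` -/
inductive Rs (m : ℕ)
  | cls (i : Fin m) (r : ℕ) (a b : List ℤ)
  | tr (r : ℕ) (a b : List ℤ)
  | trp (Q : List ℤ) (r : ℕ) (a b : List ℤ)
  | co (c : Fin m) (Q : List ℤ) (r : ℕ) (a b : List ℤ)

/-- the divisor -/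
def Rs.r : Rs m → ℕ
  | .cls _ r _ _ => r
  | .tr r _ _ => r
  | .trp _ r _ _ => r
  | .co _ _ r _ _ => r

/-- `a f + b Phi_e = r` -/
def res (e : ℕ) (f : List ℤ) (r : ℕ) (a b : List ℤ) : Bool := pEq (pAdd (pMul a f) (pMul b (Phi e))) [(r : ℤ)]

theorem dvd_of_res {x : ℤ} {p : ℤ} {e r : ℕ} {f a b : List ℤ} (h : res e f r a b = true) (hf : p ∣ evZ x f)
    (he : p ∣ evZ x (Phi e)) : p ∣ r := by
  have h1 := evZ_of_pEq x h
  rw [evZ_pAdd, evZ_pMul, evZ_pMul] at h1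
  have h2 : evZ x [(r : ℤ)] = r := by simp [evZ]
  rw [h2] at h1
  rw [← h1]
  exact dvd_add (hf.mul_left _) (he.mul_left _)

/-- the check of a reason -/
def Rs.ok (D : Dat m) (e k : ℕ) : Rs m → Bool
  | .cls i r a b => k.testBit i && res e (pMul [-1, 1] (D.P.D i)) r a b
  | .tr r a b => pEq (pMul (Phi e) (D.NQ e)) D.P.N && res e (D.T k) r a b
  | .trp Q r a b => pEq (pMul (Phi e) Q) (D.T k) && res e D.P.N r a b
  | .co c Q r a b => pEq (pMul (Phi e) Q) (pMul D.P.N (D.W c)) && res e (pS k (D.t c)) r a b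

theorem T_eq {D : Dat m} (hD : D.Ok) {x : ℕ}
    (hdeg : ∀ i, (D.P.den i : ℤ) * (D.P.deg x i : ℤ) = evZ x (D.P.dn i))
    {k : ℕ} {S : Finset (Fin m)} (hS : ∀ i : Fin m, i ∈ S ↔ k.testBit i = true) :
    evZ x (D.T k) = 2 * ∑ i ∈ S, (D.P.deg x i : ℤ) := by
  rw [Dat.T, evZ_pS x hS, Finset.mul_sum]
  refine Finset.sum_congr rfl fun i _ => ?_
  rw [evZ_pScale, ← hdeg, ← mul_assoc]
  congr 1
  exact_mod_cast Nat.div_mul_cancel (Nat.dvd_of_mod_eq_zero (hD.1 i).2.1)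

theorem t_eq {D : Dat m} (hD : D.Ok) {x : ℕ} (hx : 2 ≤ x)
    (hdeg : ∀ i, (D.P.den i : ℤ) * (D.P.deg x i : ℤ) = evZ x (D.P.dn i)) (c i : Fin m) :
    (evZ x (D.t c i) : ℚ) = 2 * evZ x (D.W c) * ((D.P.deg x i : ℚ) * D.P.sph x i c) := by
  have h1 := evZ_of_pEq (x : ℤ) (hD.2 c i)
  rw [evZ_pScale, evZ_pMul, evZ_pScale, evZ_pMul, evZ_pMul, ← hdeg] at h1
  have h2 : (0 : ℚ) < ev x (D.P.nu i D.P.o) := ev_pos (by exact_mod_cast hx) (hD.1 i).2.2
  have h3 : ((D.P.den i : ℤ) : ℚ) ≠ 0 := by exact_mod_cast (hD.1 i).1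
  have h4 := evZ_cast (x : ℤ) (D.P.nu i D.P.o)
  have h5 := evZ_cast (x : ℤ) (D.P.nu i c)
  have h1 := congrArg (fun z : ℤ => (z : ℚ)) h1
  push_cast at h1 h3 h4 h5
  rw [h4, h5] at h1
  rw [Pol.sph]
  field_simp
  refine mul_left_cancel₀ h3 ?_
  linear_combination h1

theorem Rs.dvd {D : Dat m} (hD : D.Ok) {x p e k : ℕ} (hx : 2 ≤ x)
    (hdeg : ∀ i, (D.P.den i : ℤ) * (D.P.deg x i : ℤ) = evZ x (D.P.dn i)) (hp : p.Prime) (hp2 : p ≠ 2)
    (he : (p : ℤ) ∣ evZ x (Phi e)) {S : Finset (Fin m)} (hS : ∀ i : Fin m, i ∈ S ↔ k.testBit i = true)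
    (hT : Tst D.P x p S) {c : Rs m} (hc : c.ok D e k = true) : p ∣ c.r := by
  have hpZ : Prime (p : ℤ) := Nat.prime_iff_prime_int.1 hp
  have h2 : ∀ z : ℤ, (p : ℤ) ∣ 2 * z → (p : ℤ) ∣ z := by
    intro z hz
    rcases hpZ.dvd_or_dvd hz with h | h
    · exfalso
      have h3 : p ∣ 2 := by exact_mod_cast h
      exact hp2 ((Nat.prime_dvd_prime_iff_eq hp Nat.prime_two).1 h3)
    · exact h
  cases c with
  | cls i r a b =>
    rw [Rs.ok, Bool.and_eq_true] at hc
    have h3 := hT.cls i ((hS i).2 hc.1)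
    have h4 : (p : ℤ) ∣ evZ x (pMul [-1, 1] (D.P.D i)) := by
      rw [evZ_pMul]
      have h5 : evZ (x : ℤ) [-1, 1] = (x : ℤ) - 1 := by simp only [evZ]; ring
      rwa [h5]
    exact_mod_cast dvd_of_res hc.2 h4 he
  | tr r a b =>
    rw [Rs.ok, Bool.and_eq_true] at hc
    have h3 : (p : ℤ) ∣ evZ x D.P.N := by
      rw [← evZ_of_pEq x hc.1, evZ_pMul]
      exact he.mul_right _
    have h4 := hT.tr 1 (by rwa [pow_one])
    rw [pow_one] at h4
    have h5 : (p : ℤ) ∣ evZ x (D.T k) := by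
      rw [T_eq hD hdeg hS]
      exact h4.mul_left _
    exact_mod_cast dvd_of_res hc.2 h5 he
  | trp Q r a b =>
    rw [Rs.ok, Bool.and_eq_true] at hc
    have h3 : (p : ℤ) ∣ evZ x (D.T k) := by
      rw [← evZ_of_pEq x hc.1, evZ_pMul]
      exact he.mul_right _
    rw [T_eq hD hdeg hS] at h3
    have h4 : (p : ℤ) ∣ evZ x D.P.N := by
      by_contra hn
      exact hT.tr' hn (h2 _ h3)
    exact_mod_cast dvd_of_res hc.2 h4 he
  | co c Q r a b =>
    rw [Rs.ok, Bool.and_eq_true] at hc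
    have h3 : (p : ℤ) ∣ evZ x D.P.N * evZ x (D.W c) := by
      rw [← evZ_pMul, ← evZ_of_pEq x hc.1, evZ_pMul]
      exact he.mul_right _
    obtain ⟨u, v, hv, huv⟩ := hT.co c
    have h4 : v * evZ x (pS k (D.t c)) = 2 * u * (evZ x D.P.N * evZ x (D.W c)) := by
      have h5 : ((v * evZ x (pS k (D.t c)) : ℤ) : ℚ) = ((2 * u * (evZ x D.P.N * evZ x (D.W c)) : ℤ) : ℚ) := by
        rw [evZ_pS x hS]
        push_cast
        rw [Finset.sum_congr rfl fun i _ => t_eq hD hx hdeg c i, ← Finset.mul_sum]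
        have h6 := evZ_cast (x : ℤ) D.P.N
        push_cast at h6
        rw [h6]
        linear_combination 2 * (evZ x (D.W c) : ℚ) * huv
      exact_mod_cast h5
    have h7 : (p : ℤ) ∣ v * evZ x (pS k (D.t c)) := by
      rw [h4]
      exact h3.mul_left _
    have h8 := (hpZ.dvd_or_dvd h7).resolve_left hv
    exact_mod_cast dvd_of_res hc.2 h8 he

/-- the table of reasons: `(e, l)` with `l` indexed by `k / 2` -/
abbrev Tab (m : ℕ) := List (ℕ × List (List (Rs m)))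

/-- the reasons for `(e, k)` -/
def get (tab : Tab m) (e k : ℕ) : List (Rs m) :=
  match tab.lookup e with
  | some l => l.getD (k / 2) []
  | none => []

/-- the set with mask `k` does not occur for an odd prime of order `e` -/
def Bad (D : Dat m) (tab : Tab m) (e k : ℕ) : Bool :=
  [2, 3, 4, 5, 6, 7, 8, 9, 10, 12, 14, 15, 18, 20, 24, 30].contains e &&
  (get tab e k).all (fun c => c.ok D e k) && chkR ((get tab e k).foldr (fun c r => Nat.gcd c.r r) 0) e

theorem Bad.spec {D : Dat m} (hD : D.Ok) {tab : Tab m} {x p e k : ℕ} (hx : 2 ≤ x)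
    (hdeg : ∀ i, (D.P.den i : ℤ) * (D.P.deg x i : ℤ) = evZ x (D.P.dn i)) (hp : p.Prime) (hp2 : p ≠ 2)
    (he : ord x p = e) {S : Finset (Fin m)} (hS : ∀ i : Fin m, i ∈ S ↔ k.testBit i = true)
    (hT : Tst D.P x p S) : Bad D tab e k = false := by
  by_contra hcon
  rw [Bool.not_eq_false, Bad, Bool.and_eq_true, Bool.and_eq_true, List.all_eq_true] at hcon
  obtain ⟨⟨h1, h2⟩, h3⟩ := hcon
  have h1 : e ∈ [2, 3, 4, 5, 6, 7, 8, 9, 10, 12, 14, 15, 18, 20, 24, 30] := by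
    simpa using h1
  have h4 := dvd_Phi hp he h1
  refine chkR_spec h3 hp he ?_
  have key : ∀ l : List (Rs m), (∀ c ∈ l, c.ok D e k = true) → p ∣ l.foldr (fun c r => Nat.gcd c.r r) 0 := by
    intro l
    induction l with
    | nil => exact fun _ => dvd_zero p
    | cons c l ih =>
      intro h
      rw [List.foldr_cons]
      exact Nat.dvd_gcd (Rs.dvd hD hx hdeg hp hp2 h4 hS hT (h c List.mem_cons_self))
        (ih fun c' hc' => h c' (List.mem_cons_of_mem _ hc'))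
  exact key _ h2

/-- a mask -/
theorem exists_mask (S : Finset (Fin m)) : ∃ k : ℕ, k < 2 ^ m ∧ ∀ i : Fin m, i ∈ S ↔ k.testBit i = true := by
  refine ⟨Nat.ofBits fun i : Fin m => decide (i ∈ S), Nat.ofBits_lt_two_pow _, fun i => ?_⟩
  rw [Nat.testBit_ofBits_lt _ _ i.2, decide_eq_true_eq]

/-- a set which passes the tests for both primes -/
theorem exists_both [NeZero m] {D : Dat m} (hD : D.Ok) {lam : Fin m → Fin m → List ℤ} {tab : Tab m} {x p l g e f : ℕ}
    (hx : 2 ≤ x) (hdeg : ∀ i, (D.P.den i : ℤ) * (D.P.deg x i : ℤ) = evZ x (D.P.dn i)) (hp : p.Prime) (hp2 : p ≠ 2)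
    (he : ord x p = e) (hl : l.Prime) (hl2 : l ≠ 2) (hf : ord x l = f) (h : SepX D.P lam x p l g 0) :
    ∃ (S : Finset (Fin m)) (k : ℕ), k < 2 ^ m ∧ (∀ i : Fin m, i ∈ S ↔ k.testBit i = true) ∧ k.testBit 0 = true ∧
      TstX D.P lam x p g S ∧ TstX D.P lam x l g S ∧ Bad D tab e k = false ∧ Bad D tab f k = false := by
  obtain ⟨S, h0, h1, h2⟩ := h
  obtain ⟨k, hk, hS⟩ := exists_mask S
  exact ⟨S, k, hk, hS, (hS 0).1 h0, h1, h2, Bad.spec hD hx hdeg hp hp2 he hS h1.toTst,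
    Bad.spec hD hx hdeg hl hl2 hf hS h2.toTst⟩

/-- the pairs of orders `e`, `f` are excluded by the tables -/
def Kl (D : Dat m) (tab : Tab m) (e f : ℕ) : Prop :=
  ∀ k < 2 ^ m, k.testBit 0 = true → Bad D tab e k = true ∨ Bad D tab f k = true

instance (D : Dat m) (tab : Tab m) (e f : ℕ) : Decidable (Kl D tab e f) := by unfold Kl; infer_instance

universe u

theorem kill_of [NeZero m] {G : Type u} [Group G] {D : Dat m} (hD : D.Ok) {lam : Fin m → Fin m → List ℤ}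
    {tab : Tab m} {x g : ℕ} (hx : 2 ≤ x) (hdeg : ∀ i, (D.P.den i : ℤ) * (D.P.deg x i : ℤ) = evZ x (D.P.dn i))
    (hsep : ∀ p l : ℕ, p.Prime → l.Prime → Same p l G → SepX D.P lam x p l g 0) {e f : ℕ} (h : Kl D tab e f) :
    Kill G x e f := by
  intro p l hp hl hp2 hl2 _ _ _ he hf hS
  obtain ⟨S, k, hk, _, h0, _, _, h1, h2⟩ := exists_both hD (tab := tab) hx hdeg hp hp2 he hl hl2 hf (hsep p l hp hl hS)
  rcases h k hk h0 with h3 | h3
  · rw [h3] at h1
    exact Bool.noConfusion h1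
  · rw [h3] at h2
    exact Bool.noConfusion h2

end Cfsg.Agent.H632.PQ.Arith
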