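import Cfsg.Agent.H632.PQ.Tw
import Cfsg.Agent.ChevalleyStructure.UnipProd
import Cfsg.Agent.KFacts.RgdRigid

/-!
# S4612, linear characters: `G₂(q)` (helper632)

The parabolic subgroup of the highest short root `s = 2α + β`, acting on `X_s Z / Z`, `Z = X_{3α+β} X_{3α+2β}`.
`lin_G2`, `linTwo_G2`.
-/

set_option autoImplicit false
set_option linter.unusedSectionVars false

namespace Cfsg.Agent.H632.PQ

open Cfsg.Agent.H317.PQ
open Cfsg Cfsg.Agent.H967.Sph Cfsg.Agent.H996.PQ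
open CoxeterSystem Cfsg.Agent.ChevalleyStructure.CoxeterGeom Cfsg.Agent.Tits.Roots Cfsg.Agent.Tits.Core
  Cfsg.Agent.Nodes.Reps Cfsg.Agent.Nodes.BNOf Cfsg.Agent.Nodes.StabComb Cfsg.Agent.Nodes.Bruhat
  Cfsg.Agent.Nodes.OppDec Cfsg.Agent.Nodes.LeviDec Cfsg.Agent.Nodes.RGDChev Cfsg.Agent.H89.PQX
open Cfsg.Lie Cfsg.Agent.ChevalleyStructure Cfsg.Agent.ChevalleyStructure.Elts Cfsg.Agent.ChevalleyStructure.NPerm
  Cfsg.Agent.ChevalleyStructure.TwistedU Cfsg.Agent.ChevalleyStructure.CoxeterGeomTypes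

universe u v

/-! ### Scalars modulo a subgroup -/

section ScalZ

variable {Y : Type u} [Group Y] {F : Type v} [Field F] (x : F → Y) (Z : Subgroup Y)

/-- the elements normalising `Z` and acting as scalars on the elements `x a` modulo `Z` -/
def scalZ : Subgroup Y where
  carrier := {g | (∀ y, y ∈ Z ↔ g * y * g⁻¹ ∈ Z) ∧ ∃ c : Fˣ, ∀ a, (x (c * a))⁻¹ * (g * x a * g⁻¹) ∈ Z}
  mul_mem' := by
    rintro g k ⟨hg, c, hc⟩ ⟨hk, d, hd⟩
    refine ⟨fun y => ?_, c * d, fun a => ?_⟩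
    · have h1 : g * k * y * (g * k)⁻¹ = g * (k * y * k⁻¹) * g⁻¹ := by group
      rw [h1, ← hg, ← hk]
    · have h1 := (hg _).1 (hd a)
      have h2 := hc ((d : F) * a)
      rw [Units.val_mul, mul_assoc]
      have h3 : (x ((c : F) * ((d : F) * a)))⁻¹ * (g * k * x a * (g * k)⁻¹) =
          ((x ((c : F) * ((d : F) * a)))⁻¹ * (g * x ((d : F) * a) * g⁻¹)) *
            (g * ((x ((d : F) * a))⁻¹ * (k * x a * k⁻¹)) * g⁻¹) := by group
      rw [h3]
      exact mul_mem h2 h1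
  one_mem' := ⟨fun y => by simp, 1, fun a => by simp⟩
  inv_mem' := by
    rintro g ⟨hg, c, hc⟩
    have hg' : ∀ y, y ∈ Z ↔ g⁻¹ * y * g⁻¹⁻¹ ∈ Z := by
      intro y
      rw [hg (g⁻¹ * y * g⁻¹⁻¹)]
      have h1 : g * (g⁻¹ * y * g⁻¹⁻¹) * g⁻¹ = y := by group
      rw [h1]
    refine ⟨hg', c⁻¹, fun a => ?_⟩
    have h1 := hc (((c⁻¹ : Fˣ) : F) * a)
    have h0 : (c : F) * (((c⁻¹ : Fˣ) : F) * a) = a := by rw [← mul_assoc, Units.mul_inv, one_mul]
    rw [h0] at h1
    have h2 := (hg' _).1 h1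
    have h3 : g⁻¹ * ((x a)⁻¹ * (g * x (((c⁻¹ : Fˣ) : F) * a) * g⁻¹)) * g⁻¹⁻¹ =
        ((x (((c⁻¹ : Fˣ) : F) * a))⁻¹ * (g⁻¹ * x a * g⁻¹⁻¹))⁻¹ := by group
    rw [h3] at h2
    exact inv_mem_iff.1 h2

variable {x Z}

theorem scalZ_mul_eq (hinj : ∀ a b, (x a)⁻¹ * x b ∈ Z → a = b) {g k : Y} {c d e : F}
    (hg : ∀ y, y ∈ Z ↔ g * y * g⁻¹ ∈ Z) (h2 : ∀ a, (x (c * a))⁻¹ * (g * x a * g⁻¹) ∈ Z)
    (h3 : (x d)⁻¹ * (k * x 1 * k⁻¹) ∈ Z) (h1 : (x e)⁻¹ * (g * k * x 1 * (g * k)⁻¹) ∈ Z) : e = c * d := by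
  apply hinj
  have h5 : (x e)⁻¹ * x (c * d) = ((x e)⁻¹ * (g * k * x 1 * (g * k)⁻¹)) *
      (((x (c * d))⁻¹ * (g * x d * g⁻¹)) * (g * ((x d)⁻¹ * (k * x 1 * k⁻¹)) * g⁻¹))⁻¹ := by
    group
  rw [h5]
  exact mul_mem h1 (inv_mem (mul_mem (h2 d) ((hg _).1 h3)))

/-- the scalar -/
noncomputable def evZ (hinj : ∀ a b, (x a)⁻¹ * x b ∈ Z → a = b) : scalZ x Z →* Fˣ where
  toFun g := g.2.2.choose
  map_one' := by
    have h1 := (1 : scalZ x Z).2.2.choose_spec 1
    apply Units.ext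
    refine (hinj _ _ ?_)
    rw [mul_one] at h1
    have h2 : ∀ y : Y, y * ((1 : Y) * x 1 * (1 : Y)⁻¹) ∈ Z → y * x 1 ∈ Z := fun y hy => by
      rwa [one_mul, inv_one, mul_one] at hy
    exact h2 _ h1
  map_mul' := by
    intro g k
    have h1 := (g * k).2.2.choose_spec 1
    have h3 := k.2.2.choose_spec 1
    rw [mul_one] at h1 h3
    apply Units.ext
    rw [Units.val_mul]
    exact scalZ_mul_eq hinj g.2.1 g.2.2.choose_spec h3 h1

theorem evZ_eq (hinj : ∀ a b, (x a)⁻¹ * x b ∈ Z → a = b) {g : Y} (hg : g ∈ scalZ x Z) {c : F}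
    (hc : (x c)⁻¹ * (g * x 1 * g⁻¹) ∈ Z) : ((evZ hinj ⟨g, hg⟩ : Fˣ) : F) = c := by
  have h1 := (⟨g, hg⟩ : scalZ x Z).2.2.choose_spec 1
  rw [mul_one] at h1
  have h2 := mul_mem hc (inv_mem h1)
  have h3 : (x c)⁻¹ * (g * x 1 * g⁻¹) * ((x (hg.2.choose : Fˣ))⁻¹ * (g * x 1 * g⁻¹))⁻¹ =
      (x c)⁻¹ * x (hg.2.choose : Fˣ) := by group
  rw [h3] at h2
  exact (hinj _ _ h2).symm

end ScalZ

/-! ### Root elements of the Chevalley groups -/

section Chev

variable {D : ChevalleyDatum} {l : ℕ} {M : CoxeterMatrix (Fin l)} {hp : IsType D l M} {K : Type u} [Field K]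

/-- conjugation of a root element by a root element -/
theorem conj_xG_mem {r s : ℕ} (hr : r < D.nroots) (hs : s < D.nroots) (hrs : s ≠ r) (hneg : s ≠ D.neg r)
    {S : Set ℕ} (hS : ∀ c ∈ D.commTerms r s, c.1 ∈ S) (t u : K) :
    (xG hp.inList s u)⁻¹ * (xG hp.inList r t * xG hp.inList s u * (xG hp.inList r t)⁻¹) ∈ rspan (xG (F := K) hp.inList) S := by
  have h1 : ∀ t u : K, xG hp.inList s u * xG hp.inList r t =
      xG hp.inList r t * xG hp.inList s u * wordG hp.inList (D.commWord K r s t u) := by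
    intro t u
    apply Units.ext
    rw [Units.val_mul, Units.val_mul, Units.val_mul, coe_wordG, coe_xG, coe_xG]
    exact Cfsg.Agent.S1025.result (F := K) D hp.inList r s hr hs hrs hneg t u
  have h2 : (xG hp.inList s u)⁻¹ * (xG hp.inList r t * xG hp.inList s u * (xG hp.inList r t)⁻¹) =
      wordG hp.inList (D.commWord K r s (-t) u) := by
    have h3 := h1 (-t) u
    rw [← xG_inv] at h3
    have h4 : wordG hp.inList (D.commWord K r s (-t) u) =
        (xG hp.inList s u)⁻¹ * (xG hp.inList r t * (xG hp.inList s u * (xG hp.inList r t)⁻¹)) := by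
      rw [h3]; group
    rw [h4]
    group
  rw [h2]
  have h3 : ∀ w : List (ℕ × K), (∀ y ∈ w, y.1 ∈ S) → wordG hp.inList w ∈ rspan (xG (F := K) hp.inList) S := by
    intro w
    induction w with
    | nil => intro _; rw [wordG_nil]; exact one_mem _
    | cons y w ih =>
      intro hw
      obtain ⟨y1, y2⟩ := y
      rw [wordG_cons]
      exact mul_mem (mem_rspan _ (hw _ List.mem_cons_self) _) (ih fun z hz => hw z (List.mem_cons_of_mem _ hz))
  refine h3 _ fun y hy => ?_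
  unfold ChevalleyDatum.commWord at hy
  obtain ⟨c, hc, rfl⟩ := List.mem_map.1 hy
  exact hS c hc

/-- conjugation by the coroot elements -/
theorem hG_conj (i : Fin l) {s : ℕ} (hs : s < D.nroots) {c : K} (hc : c ≠ 0) (u : K) :
    hG hp.inList (D.simple i) c * xG hp.inList s u * (hG hp.inList (D.simple i) c)⁻¹ =
      xG hp.inList s (c ^ D.cartan i s * u) := by
  rw [mul_inv_eq_iff_eq_mul]
  have h1 := Cfsg.Agent.S1032.result D hp.inList i s (lt_rank hp i) hs c hc u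
  apply Units.ext
  rw [Units.val_mul, Units.val_mul, coe_hG, coe_xG, coe_xG, h1]

/-- representatives act monomially on the root elements -/
theorem rp_conj_chev {W : Type*} [Group W] {cs : CoxeterSystem M W} [Finite K] {p : ℕ} [Fact p.Prime] [CharP K p]
    (S : ℕ → Prop) (hS : ∀ s, S s → s < D.nroots) (hSr : ∀ s, S s → ∀ i : Fin l, S (D.reflectRoot i s))
    {w : W} {k : ↥(D.group K)} (hk : Rp cs (rgd (K := K) hp cs p).nsys w k) {s : ℕ} (hs : S s) :
    ∃ s', S s' ∧ vec D l s' = rep cs hp.isCartan w (vec D l s) ∧ ∃ c : K, c ≠ 0 ∧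
      ∀ t, (k : GL D.Idx K) * xG hp.inList s t * (k : GL D.Idx K)⁻¹ = xG hp.inList s' (c * t) := by
  obtain ⟨ω, rfl⟩ := cs.wordProd_surjective w
  induction ω generalizing k with
  | nil =>
    rw [wordProd_nil] at hk ⊢
    have h1 := Subgroup.mem_subgroupOf.1 hk.mem_of_one
    obtain ⟨c, hc, hct⟩ := BNChev.diagonal_conj hp.inList (F := K) h1 (hS s hs)
    exact ⟨s, hs, by rw [map_one, Module.End.one_apply], c, hc, hct⟩
  | cons i ω ih =>
    rw [wordProd_cons] at hk ⊢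
    have h1 : Rp cs (rgd (K := K) hp cs p).nsys (cs.wordProd ω)
        ((⟨nn hp K i, nn_mem_group hp i⟩ : ↥(D.group K))⁻¹ * k) := by
      have := (rp_simple cs (rgd (K := K) hp cs p).nsys i).inv.mul hk
      rwa [inv_mul_cancel_left] at this
    obtain ⟨s', hs', e, c, hc, hct⟩ := ih h1
    obtain ⟨η, hη, hηt, -⟩ := NConj.conj_x (F := K) hp.inList (lt_rank hp i) (hS s' hs')
    have hη0 : η ≠ 0 := by
      rcases hη with h | h <;> rw [h]
      · exact one_ne_zero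
      · exact neg_ne_zero.2 one_ne_zero
    refine ⟨D.reflectRoot i s', hSr s' hs' i, ?_, η * c, mul_ne_zero hη0 hc, fun t => ?_⟩
    · rw [← rep_vec hp cs i (hS s' hs'), e, rep_mul_apply]
    · have h2 : (k : GL D.Idx K) * xG hp.inList s t * (k : GL D.Idx K)⁻¹ =
          nn hp K i * ((((⟨nn hp K i, nn_mem_group hp i⟩ : ↥(D.group K))⁻¹ * k : ↥(D.group K)) : GL D.Idx K) * xG hp.inList s t *
            (((⟨nn hp K i, nn_mem_group hp i⟩ : ↥(D.group K))⁻¹ * k : ↥(D.group K)) : GL D.Idx K)⁻¹) * (nn hp K i)⁻¹ := by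
        rw [Subgroup.coe_mul, Subgroup.coe_inv]
        group
      rw [h2, hct]
      exact (hηt _).trans (by rw [mul_assoc])

end Chev

/-! ### `G₂(q)` -/

section G2

theorem hpG : IsType chevG2 2 CoxeterMatrix.G₂ := by simp [IsType, typeList]

theorem hiG : Hi (cartanOf chevG2 2) 0 ![2, 1] ![1, 3] where
  sym := by decide +kernel
  pos := by decide +kernel
  nonneg := by decide +kernel
  orth := by decide +kernel
  top := by decide +kernel

variable {K : Type u} [Field K]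

/-- the two highest root groups -/
def ZG (K : Type u) [Field K] : Subgroup (GL chevG2.Idx K) := rspan (xG (F := K) hpG.inList) {k | k = 10 ∨ k = 11}

theorem xG_comm {r s : ℕ} (hr : r < chevG2.nroots) (hs : s < chevG2.nroots) (hrs : s ≠ r) (hneg : s ≠ chevG2.neg r)
    (hc : chevG2.commTerms r s = []) (t u : K) : xG hpG.inList r t * xG hpG.inList s u = xG hpG.inList s u * xG hpG.inList r t := by
  have h1 := conj_xG_mem (hp := hpG) hr hs hrs hneg (S := ∅) (by rw [hc]; intro c hc; exact absurd hc List.not_mem_nil) t u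
  have h2 : rspan (xG (F := K) hpG.inList) (∅ : Set ℕ) = ⊥ := by
    rw [eq_bot_iff]
    exact rspan_le _ fun r hr => absurd hr (Set.notMem_empty r)
  rw [h2, Subgroup.mem_bot, inv_mul_eq_one] at h1
  rw [← mul_inv_eq_iff_eq_mul]
  exact h1.symm

theorem mem_ZG {g : GL chevG2.Idx K} (hg : g ∈ ZG K) : ∃ u v : K, g = xG hpG.inList 10 u * xG hpG.inList 11 v := by
  have hc : ∀ t u : K, xG hpG.inList 10 t * xG hpG.inList 11 u = xG hpG.inList 11 u * xG hpG.inList 10 t :=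
    xG_comm (by decide +kernel) (by decide +kernel) (by decide +kernel) (by decide +kernel) (by decide +kernel)
  induction hg using Subgroup.closure_induction with
  | mem g hg =>
    obtain ⟨r, hr | hr, t, rfl⟩ := hg
    · subst hr
      exact ⟨t, 0, by rw [xG_zero, mul_one]⟩
    · subst hr
      exact ⟨0, t, by rw [xG_zero, one_mul]⟩
  | one => exact ⟨0, 0, by rw [xG_zero, xG_zero, mul_one]⟩
  | mul g k _ _ hg hk =>
    obtain ⟨u, v, rfl⟩ := hg
    obtain ⟨u', v', rfl⟩ := hk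
    refine ⟨u + u', v + v', ?_⟩
    rw [← xG_add, ← xG_add, mul_assoc, mul_assoc, ← mul_assoc (xG hpG.inList 11 v), ← hc u' v]
    simp only [mul_assoc]
  | inv g _ hg =>
    obtain ⟨u, v, rfl⟩ := hg
    refine ⟨-u, -v, ?_⟩
    rw [mul_inv_rev, xG_inv, xG_inv, hc]

/-- the coordinate of `X_s` modulo `Z` -/
theorem hinjG (a b : K) (h : (xG hpG.inList 9 a)⁻¹ * xG hpG.inList 9 b ∈ ZG K) : a = b := by
  obtain ⟨u, v, e⟩ := mem_ZG h
  rw [xG_inv, xG_add] at e
  have h1 := UnipProd.prod_injective (F := K) hpG.inList (k := 9) (by decide +kernel)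
    (t := fun r => if r = 9 then -a + b else 0) (t' := fun r => if r = 10 then u else if r = 11 then v else 0) (by
      have h2 : UnipProd.rootsGE chevG2 9 = [9, 10, 11] := by decide +kernel
      rw [h2]
      simp only [List.map_cons, List.map_nil, wordG_cons, wordG_nil]
      norm_num
      rw [e, xG_zero, xG_zero, xG_zero]
      group)
  have h2 := h1 9 le_rfl (by decide +kernel)
  norm_num at h2
  exact (neg_add_eq_zero.1 h2)

theorem conj_mem_ZG {r : ℕ} (hr : r < 12) (hr5 : 5 ≤ r) (t : K) {y : GL chevG2.Idx K} (hy : y ∈ ZG K) :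
    xG hpG.inList r t * y * (xG hpG.inList r t)⁻¹ ∈ ZG K := by
  have h1 : ZG K ≤ (ZG K).comap (MulAut.conj (xG hpG.inList r t)).toMonoidHom := by
    refine rspan_le _ fun s hs u => ?_
    show xG hpG.inList r t * xG hpG.inList s u * (xG hpG.inList r t)⁻¹ ∈ ZG K
    by_cases hrs : s = r
    · subst hrs
      rw [xG_add, add_comm, ← xG_add, mul_inv_cancel_right]
      exact mem_rspan _ hs u
    · have h2 : ∀ s, (s = 10 ∨ s = 11) → ∀ r < 12, 5 ≤ r → s < chevG2.nroots ∧ s ≠ chevG2.neg r ∧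
          ∀ c ∈ chevG2.commTerms r s, c.1 = 10 ∨ c.1 = 11 := by
        rintro s (rfl | rfl) <;> decide +kernel
      obtain ⟨h3, h4, h5⟩ := h2 s hs r hr hr5
      have h6 := conj_xG_mem (hp := hpG) (D := chevG2) hr h3 hrs h4 (S := {k | k = 10 ∨ k = 11}) h5 t u
      have h7 := mul_mem (mem_rspan (xG (F := K) hpG.inList) (S := {k | k = 10 ∨ k = 11}) hs u) h6
      rwa [mul_inv_cancel_left] at h7
  exact h1 hy

theorem xG_mem_scalZ {r : ℕ} (hr : r < 12) (hr5 : 5 ≤ r) (t : K) :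
    xG hpG.inList r t ∈ scalZ (fun a : K => xG hpG.inList 9 a) (ZG K) := by
  refine ⟨fun y => ⟨conj_mem_ZG hr hr5 t, fun hy => ?_⟩, 1, fun a => ?_⟩
  · have h1 := conj_mem_ZG hr hr5 (-t) hy
    rw [← xG_inv] at h1
    have h2 : (xG hpG.inList r t)⁻¹ * (xG hpG.inList r t * y * (xG hpG.inList r t)⁻¹) * (xG hpG.inList r t)⁻¹⁻¹ = y := by group
    rwa [h2] at h1
  · rw [Units.val_one, one_mul]
    by_cases hrs : r = 9
    · subst hrs
      rw [xG_add, add_comm, ← xG_add, mul_inv_cancel_right, inv_mul_cancel]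
      exact one_mem _
    · have h2 : ∀ r < 12, 5 ≤ r → 9 ≠ chevG2.neg r ∧ ∀ c ∈ chevG2.commTerms r 9, c.1 = 10 ∨ c.1 = 11 := by
        decide +kernel
      obtain ⟨h4, h5⟩ := h2 r hr hr5
      exact conj_xG_mem (hp := hpG) (D := chevG2) hr (by decide +kernel) (Ne.symm hrs) h4 (S := {k | k = 10 ∨ k = 11}) h5 t a

theorem diag_mem_scalZ {t : GL chevG2.Idx K} (ht : t ∈ chevG2.diagonalSubgroup K) :
    t ∈ scalZ (fun a : K => xG hpG.inList 9 a) (ZG K) := by
  have h1 : ∀ t ∈ chevG2.diagonalSubgroup K, ∀ y ∈ ZG K, t * y * t⁻¹ ∈ ZG K := by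
    intro t ht y hy
    have h2 : ZG K ≤ (ZG K).comap (MulAut.conj t).toMonoidHom := by
      refine rspan_le _ fun s hs u => ?_
      show t * xG hpG.inList s u * t⁻¹ ∈ ZG K
      have hlt : s < chevG2.nroots := by rcases hs with rfl | rfl <;> decide +kernel
      obtain ⟨c, -, hct⟩ := BNChev.diagonal_conj hpG.inList (F := K) ht hlt
      rw [hct]
      exact mem_rspan _ hs _
    exact h2 hy
  obtain ⟨c, hc, hct⟩ := BNChev.diagonal_conj hpG.inList (F := K) ht (s := 9) (by decide +kernel)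
  refine ⟨fun y => ⟨h1 t ht y, fun hy => ?_⟩, Units.mk0 c hc, fun a => ?_⟩
  · have h2 := h1 _ (inv_mem ht) _ hy
    have h3 : t⁻¹ * (t * y * t⁻¹) * t⁻¹⁻¹ = y := by group
    rwa [h3] at h2
  · rw [hct, Units.val_mk0, inv_mul_cancel]
    exact one_mem _

/-- the short roots -/
def SG2 (s : ℕ) : Prop := s ∈ [2, 3, 4, 7, 8, 9]

instance decSG2 (s : ℕ) : Decidable (SG2 s) := inferInstanceAs (Decidable (_ ∈ _))

theorem sG2_lt (s : ℕ) (hs : SG2 s) : s < chevG2.nroots := by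
  have h : ∀ s ∈ [2, 3, 4, 7, 8, 9], s < chevG2.nroots := by decide +kernel
  exact h s hs

theorem sG2_refl (s : ℕ) (hs : SG2 s) (i : Fin 2) : SG2 (chevG2.reflectRoot i s) := by
  have h : ∀ s ∈ [2, 3, 4, 7, 8, 9], ∀ i : Fin 2, SG2 (chevG2.reflectRoot i s) := by decide +kernel
  exact h s hs i

theorem sG2_diff (s : ℕ) (hs : SG2 s) (h9 : s ≠ 9) : ∃ i : Fin 2, (chevG2.cartan i 9 - chevG2.cartan i s).natAbs = 1 ∨
    (chevG2.cartan i 9 - chevG2.cartan i s).natAbs = 2 := by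
  have h : ∀ s ∈ [2, 3, 4, 7, 8, 9], s ≠ 9 → ∃ i : Fin 2, (chevG2.cartan i 9 - chevG2.cartan i s).natAbs = 1 ∨
    (chevG2.cartan i 9 - chevG2.cartan i s).natAbs = 2 := by decide +kernel
  exact h s hs h9

theorem not_same_G2 [Fintype K] {p q : ℕ} (hpp : p.Prime) (hq : q.Prime) (hpq : p ≠ q) (hqK : ¬ q ∣ Fintype.card K)
    (hpK : (p ≠ 2 ∧ p ∣ Fintype.card K - 1) ∨ (p = 2 ∧ Fintype.card K % 4 = 1)) : ¬ Same p q ↥(chevG2.group K) := by
  obtain ⟨r, hr'⟩ := CharP.exists K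
  have hr : r.Prime := CharP.char_is_prime K r
  have : Fact r.Prime := ⟨hr⟩
  have hrK : r ∣ Fintype.card K := by
    obtain ⟨n, hn, hc⟩ := FiniteField.card K r
    rw [hc]; exact dvd_pow_self r n.ne_zero
  have hrq : r ≠ q := fun e => hqK (e ▸ hrK)
  obtain ⟨c, hc0, -, hpc⟩ := exists_c (K := K) (φ := RingHom.id K) (q := Fintype.card K)
    (fun x => (FiniteField.pow_card x).symm) Fintype.one_lt_card (dvd_refl _) hpp hpK
  set cs := CoxeterMatrix.G₂.toCoxeterSystem with hcs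
  have hW : Finite CoxeterMatrix.G₂.Group := finite_W hpG cs
  have R := rgd (K := K) hpG cs r
  have hGG := KFacts.RgdRigid.GG_eq_top (T := (chevG2.diagonalSubgroup K).subgroupOf (chevG2.group K))
    (G1_eq_top (K := K) hpG cs)
  set T := (chevG2.diagonalSubgroup K).subgroupOf (chevG2.group K) with hT
  set X : (Fin 2 → ℤ) → Subgroup ↥(chevG2.group K) := fun x => (XV chevG2 2 K x).subgroupOf (chevG2.group K) with hX
  -- elements of the root groups
  have hroot : ∀ y, IsRoot cs hpG.isCartan y → ∃ s < 12, y = vec chevG2 2 s ∧ ∀ a ∈ X y, ∃ t : K, (a : GL chevG2.Idx K) = xG hpG.inList s t := by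
    intro y hy
    obtain ⟨s, hs, rfl⟩ := (isRoot_iff hpG cs y).1 hy
    refine ⟨s, hs, rfl, fun a ha => ?_⟩
    have h1 : (a : GL chevG2.Idx K) ∈ XV chevG2 2 K (vec chevG2 2 s) := Subgroup.mem_subgroupOf.1 ha
    rw [XV_vec hpG K hs] at h1
    exact (mem_rootSubgroup_iff hpG.inList s _).1 h1
  have hP : ∀ g ∈ PJ cs hpG.isCartan T X {i | i ≠ 0}, (g : GL chevG2.Idx K) ∈ scalZ (fun a : K => xG hpG.inList 9 a) (ZG K) := by
    have h1 : PJ cs hpG.isCartan T X {i | i ≠ 0} ≤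
        (scalZ (fun a : K => xG hpG.inList 9 a) (ZG K)).comap (chevG2.group K).subtype := by
      refine sup_le (sup_le (fun t ht => diag_mem_scalZ (Subgroup.mem_subgroupOf.1 ht)) (RGD.Sup_le fun y hy a ha => ?_))
        (RGD.Sup_le fun y hy a ha => ?_)
      · obtain ⟨s, hs, rfl, h2⟩ := hroot y hy.1
        obtain ⟨t, ht⟩ := h2 a ha
        show (a : GL chevG2.Idx K) ∈ scalZ _ _
        rw [ht]
        refine xG_mem_scalZ hs ?_ t
        have h3 : ∀ s < 12, vec chevG2 2 s 0 = 0 → 5 ≤ s := by decide +kernel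
        exact h3 s hs (hy.2 0 (by simp))
      · obtain ⟨s, hs, rfl, h2⟩ := hroot y hy.1
        obtain ⟨t, ht⟩ := h2 a ha
        show (a : GL chevG2.Idx K) ∈ scalZ _ _
        rw [ht]
        refine xG_mem_scalZ hs ?_ t
        have h3 : ∀ s < 12, 0 < vec chevG2 2 s 0 → 5 ≤ s := by decide +kernel
        obtain ⟨-, -, k, hk, hk0⟩ := hy
        have hk' : k = 0 := by by_contra h; exact hk h
        rw [hk'] at hk0
        exact h3 s hs hk0
    exact h1
  let lam : ↥(PJ cs hpG.isCartan T X {i | i ≠ 0}) →* Kˣ := (evZ hinjG).comp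
    (((chevG2.group K).subtype.comp (PJ cs hpG.isCartan T X {i | i ≠ 0}).subtype).codRestrict
      (scalZ (fun a : K => xG hpG.inList 9 a) (ZG K)) (fun g => hP g g.2))
  have hlam : ∀ (g : ↥(chevG2.group K)) (hg : g ∈ PJ cs hpG.isCartan T X {i | i ≠ 0}) (c : K),
      (g : GL chevG2.Idx K) * xG hpG.inList 9 1 * (g : GL chevG2.Idx K)⁻¹ = xG hpG.inList 9 c →
      ((lam ⟨g, hg⟩ : Kˣ) : K) = c := by
    intro g hg c hgc
    refine evZ_eq hinjG (hP g hg) ?_
    show (xG hpG.inList 9 c)⁻¹ * ((g : GL chevG2.Idx K) * xG hpG.inList 9 1 * (g : GL chevG2.Idx K)⁻¹) ∈ ZG K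
    rw [hgc, inv_mul_cancel]
    exact one_mem _
  have hh : ∀ (i : Fin 2) (d : K), d ≠ 0 → ∃ t ∈ T, (t : GL chevG2.Idx K) = hG hpG.inList (chevG2.simple i) d :=
    fun i d hd => ⟨⟨_, hG_mem_group hpG.inList _ d⟩, Subgroup.mem_subgroupOf.2
      (hG_mem_diagonal hpG.inList (simple_lt hpG.inList (lt_rank hpG i)) hd), rfl⟩
  obtain ⟨t₀, ht₀, e₀⟩ := hh 0 (c ^ 2) (pow_ne_zero _ hc0)
  obtain ⟨t₁, ht₁, e₁⟩ := hh 1 (c ^ 3) (pow_ne_zero _ hc0)
  have hz : ∀ s < 12, ∀ u, ((t₀ * t₁ : ↥(chevG2.group K)) : GL chevG2.Idx K) * xG hpG.inList s u *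
      ((t₀ * t₁ : ↥(chevG2.group K)) : GL chevG2.Idx K)⁻¹ =
      xG hpG.inList s (c ^ (2 * chevG2.cartan 0 s + 3 * chevG2.cartan 1 s) * u) := by
    intro s hs u
    have h3 : ∀ (a b y : GL chevG2.Idx K), a * b * y * (a * b)⁻¹ = a * (b * y * b⁻¹) * a⁻¹ := fun a b y => by group
    rw [Subgroup.coe_mul, h3, e₀, e₁]
    have h4 := hG_conj (hp := hpG) (K := K) 1 hs (pow_ne_zero 3 hc0) u
    have h5 := hG_conj (hp := hpG) (K := K) 0 hs (pow_ne_zero 2 hc0) ((c ^ 3) ^ chevG2.cartan 1 s * u)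
    refine (congrArg (fun y => hG hpG.inList (chevG2.simple ((0 : Fin 2) : ℕ)) (c ^ 2) * y *
      (hG hpG.inList (chevG2.simple ((0 : Fin 2) : ℕ)) (c ^ 2))⁻¹) h4).trans (h5.trans ?_)
    rw [zpow_add₀ hc0, zpow_mul, zpow_mul, mul_assoc]
    norm_cast
  refine not_same_of_PJ R hpp hq hpq hrq hGG {i | i ≠ 0} lam ?_ (mul_mem ht₀ ht₁) ?_ ?_ ?_
  · intro w hw k hk
    obtain ⟨s', hs', hV', c', hc', hct⟩ := rp_conj_chev (hp := hpG) SG2 sG2_lt sG2_refl hk (s := 9) (by decide)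
    have hv9 : vec chevG2 2 9 = ![2, 1] := by decide +kernel
    have hne : s' ≠ 9 := by
      rintro rfl
      rw [hv9] at hV'
      exact hw (mem_WJ_of_fix_hi hiG hV'.symm)
    obtain ⟨i, hei⟩ := sG2_diff s' hs' hne
    obtain ⟨t, ht, et⟩ := hh i c hc0
    refine ⟨t, ht, ?_⟩
    have f1 := hlam t (T_le_PJ R _ ht) (c ^ chevG2.cartan i 9) (by
      rw [et, hG_conj (hp := hpG) i (by decide +kernel) hc0, mul_one])
    have f2 := hlam (k⁻¹ * t * k) (T_le_PJ R _ (conj_mem_T R hk ht)) (c ^ chevG2.cartan i s') (by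
      have h4 : ((k⁻¹ * t * k : ↥(chevG2.group K)) : GL chevG2.Idx K) * xG hpG.inList 9 1 *
          ((k⁻¹ * t * k : ↥(chevG2.group K)) : GL chevG2.Idx K)⁻¹ =
          (k : GL chevG2.Idx K)⁻¹ * ((t : GL chevG2.Idx K) * ((k : GL chevG2.Idx K) * xG hpG.inList 9 1 *
            (k : GL chevG2.Idx K)⁻¹) * (t : GL chevG2.Idx K)⁻¹) * (k : GL chevG2.Idx K) := by
        rw [Subgroup.coe_mul, Subgroup.coe_mul, Subgroup.coe_inv]
        group
      rw [h4, hct, et, hG_conj (hp := hpG) i (sG2_lt s' hs') hc0]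
      have h5 : c ^ chevG2.cartan i s' * (c' * 1) = c' * (c ^ chevG2.cartan i s') := by ring
      rw [h5, ← hct]
      group)
    rw [← orderOf_units, Units.val_div_eq_div_val, f1, f2, ← zpow_sub₀ hc0]
    exact dvd_orderOf_zpow hc0 hpc hei
  · intro t ht
    exact Subtype.ext (diag_comm hpG.inList (Subgroup.mem_subgroupOf.1 ht) (Subgroup.mem_subgroupOf.1 (mul_mem ht₀ ht₁)))
  · intro y hy a ha
    obtain ⟨s, hs, rfl, h2⟩ := hroot y hy.1
    obtain ⟨t, ht⟩ := h2 a ha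
    have h3 : ∀ s < 12, vec chevG2 2 s 0 = 0 → 2 * chevG2.cartan 0 s + 3 * chevG2.cartan 1 s = 0 := by decide +kernel
    have h4 := hz s hs t
    rw [h3 s hs (hy.2 0 (by simp)), zpow_zero, one_mul, ← ht, mul_inv_eq_iff_eq_mul] at h4
    exact Subtype.ext h4.symm
  · have f1 := hlam (t₀ * t₁) (T_le_PJ R _ (mul_mem ht₀ ht₁)) (c ^ 2) (by
      rw [hz 9 (by decide)]
      have : 2 * chevG2.cartan 0 9 + 3 * chevG2.cartan 1 9 = 2 := by decide +kernel
      rw [this, mul_one]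
      norm_cast)
    rw [← orderOf_units, f1]
    exact hpc

/-- **`Lin` for `G₂(q)`** -/
theorem lin_G2 (K : Type u) [Field K] [Fintype K] : Lin ↥(chevG2.group K) (Fintype.card K) :=
  fun _ _ hp hl hp2 hpl hlx hpx _ => not_same_G2 hp hl hpl hlx (Or.inl ⟨hp2, hpx⟩)

/-- **`LinTwo` for `G₂(q)`** -/
theorem linTwo_G2 (K : Type u) [Field K] [Fintype K] : LinTwo ↥(chevG2.group K) (Fintype.card K) :=
  fun h4 _ hl hl2 hlx _ => not_same_G2 Nat.prime_two hl hl2.symm hlx (Or.inr ⟨rfl, h4⟩)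

end G2

end Cfsg.Agent.H632.PQ
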