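import Cfsg.Agent.H632.PQ.Sl
import Cfsg.Agent.H632.PQ.TabE7f
import Cfsg.Agent.H996.PQ.Rows
import Cfsg.Agent.S1064
import Cfsg.Agent.H632.PQ.DiffE6

/-!
# `E₇`: the orders `3` and `9` (helper632, for S4612)

The constituent `q⁴ P2⁴ P5 P6² P9 P10 P14 P18 / 2` of `1_P^G`, `P = P_5`, is in the principal `p`-block for `p ∣ q² + q + 1`
and has defect zero for `l ∣ q⁶ + q³ + 1`.
-/

set_option autoImplicit false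
set_option maxRecDepth 20000

namespace Cfsg.Agent.H632.PQ

open Cfsg Cfsg.Lie Cfsg.Agent.H317.PQ Cfsg.Agent.H632.PQ.Arith Cfsg.Agent.H996.PQ Cfsg.Agent.H996.Eight.Cert
  Cfsg.Agent.H64.Dl.Sph Cfsg.Agent.H35.ExcIdx
open Cfsg.Agent.ChevalleyStructure Cfsg.Agent.ChevalleyStructure.CoxeterGeomTypes Cfsg.Agent.Nodes.RGDChev
open CoxeterSystem Cfsg.Agent.ChevalleyStructure.CoxeterGeom Cfsg.Agent.Tits.Roots Cfsg.Agent.Tits.Core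

universe u

namespace E7f

/-- the quotients by `Phi 3` -/
def quo (c : Fin 13) : List ℤ := ([[], [-1, -1, 0, -2, -1, 0, -1, -2, 0, -1, -1], [0, 1, -1, 1, -1, -2, -3, -1, -4, -2, -2, -4, -3, -2, -2, -2, 0, -1], [0, 0, 0, 1, -1, -1, 0, 0, -2, 0, 0, -2, -1, 0, -1, -1], [0, 0, 0, -1, 1, 1, 1, 2, 0, -4, -3, -3, -5, -4, -5, -8, -6, -5, -6, -4, -2, -2, -1], [0, 0, 0, 0, 0, 0, 0, -1, 1, 2, 0, 1, 1, -2, -1, 1, -3, -3, -1, -4, -4, -2, -3, -3, -1, -1, -1], [0, 0, 0, 0, 0, 0, 0, -1, 1, 2, 0, 1, 1, -2, -1, 1, -3, -3, -1, -4, -4, -2, -3, -3, -1, -1, -1], [0, 0, 0, 0, 0, 0, 0, -1, 0, 1, 0, 0, 0, -1, 0, 1, -1, -1, 1, -1, -1, 0, 0, -1], [0, 0, 0, 0, 0, 0, 0, 1, -1, -3, -1, 0, 0, 3, 1, -1, 1, 0, -3, 0, -2, -6, -4, -5, -8, -6, -5, -6, -4, -2, -2, -1], [0, 0, 0, 0, 0, 0, 0, 0, 0, 0, 1, 0, -1, -1, 0, -2, 1, 1, -1, 0, 2, -2,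 0, 1, -2, -2, 0, -4, -3, -2, -4, -3, -2, -2, -2, 0, -1], [0, 0, 0, 0, 0, 0, 0, 0, 0, 0, 0, 0, 0, -1, 0, -1, 0, 1, 0, -1, 1, 0, -1, 1, 0, -2, 0, 0, -2, -1, 0, -1, -1], [0, 0, 0, 0, 0, 0, 0, 0, 0, 0, 0, 0, 0, 1, 0, 1, 0, -1, 0, 1, -2, 0, 2, -2, 0, 2, -2, 0, 2, -2, -1, 1, -2, -2, 0, -2, -2, 0, -1, -1], [0, 0, 0, 0, 0, 0, 0, 0, 0, 0, 0, 0, 0, 0, 0, 0, 0, 0, 0, 0, 0, 1, -1, 0, 1, -1, 0, 1, -1, 0, 1, -1, 0, 1, -1, 0, 1, -1, 0, 1, -1]] : List (List ℤ)).getD c []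

/-- the factors of the order -/
def od : List (ℕ × ℕ) :=
  [(1, 7), (2, 7), (3, 3), (4, 2), (5, 1), (6, 3), (7, 1), (8, 1), (9, 1), (10, 1), (12, 1), (14, 1), (18, 1)]

/-- certificate of defect zero -/
def dz : DzC 1 :=
  ⟨9, 0, [9], [0, 0, 0, 0, 1, 1, 1, 2, 2, 2, 2, 3, 3, 4, 4, 4, 5, 4, 4, 4, 5, 4, 4, 4, 3, 3, 2, 2, 2, 2, 1, 1, 1], [(1, 3, [-2, -2, -2, -1, -1, -1], [1]), (2, 1, [0, 0, 0, -1, 1, -1], [1]), (3, 3, [2, -2, 0, 1, -1], [1]), (4, 1, [1, -1, -1, 1, 0, -1], [0, 1]), (5, 1, [1, 0, 0, 0, 0, 1], [0, -1, -1, -1]), (6, 1, [0, 0, 0, -1, -1], [1]), (7, 1, [1, -1, 0, 1, -1, 1], [0, 0, 0, -1, 0, -1]), (8, 1, [0, -1, -1, -1, -1], [1, 1, 1]), (10, 1, [1, 2, 2, 2, 2, 1], [0, -1, -1, -1]), (12, 1, [1, 0, 1, 1, 0, 1], [0, 0, 0, -1]), (14, 1, [-1, 1, 2, -1, -1, 1], [2, -2, 0, -1, 2, -1]), (18, 2, [1, 0, 0,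 1], [1, 0, 0, -1])]⟩

theorem dz_ok : dz.ok (polOf TabE7f.c1) od = true := by decide +kernel

theorem lam_ok : ∀ c, pEq (pMul (TabE7f.lam c) (TabE7f.c1.nu 0)) (pMul (TabE7f.kk c) (TabE7f.c1.nu c)) = true := by
  decide +kernel

theorem quo_ok : ∀ c, pEq (pAdd (TabE7f.lam c) (pNeg (TabE7f.kk c))) (pMul (Phi 3) (quo c)) = true := by
  decide +kernel

theorem hA : cartanOf chevE7 7 = TabE7f.A := by
  funext i k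
  revert i k
  decide +kernel

theorem cls0 : TabE7f.data.t.cls TabE7f.data.t.o = 0 := by decide +kernel

theorem card_dvd (K : Type u) [Field K] [Fintype K] : ((Nat.card ↥(chevE7.group K) : ℕ) : ℤ) ∣
    ((Fintype.card K : ℕ) : ℤ) ^ 63 * (od.map fun d => evZ (Fintype.card K : ℕ) (Phi d.1) ^ d.2).prod := by
  have h := S1064.result (F := K) rfl
  obtain ⟨x, hx⟩ : ∃ x, x = Fintype.card K := ⟨_, rfl⟩
  rw [← hx] at h ⊢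
  have h1 : 1 ≤ x := by rw [hx]; exact Fintype.card_pos
  have h2 := congrArg (fun n : ℕ => (n : ℤ)) h
  simp only [Nat.cast_mul, Nat.cast_pow, Nat.cast_sub (Nat.one_le_pow _ _ h1), Nat.cast_one] at h2
  refine ⟨(Nat.gcd 2 (x - 1) : ℕ), ?_⟩
  rw [mul_comm (Nat.card _ : ℤ), h2]
  have e7 : evZ (x : ℤ) (Phi 7) = (x : ℤ) ^ 6 + (x : ℤ) ^ 5 + (x : ℤ) ^ 4 + (x : ℤ) ^ 3 + (x : ℤ) ^ 2 + x + 1 := by
    show evZ x [1, 1, 1, 1, 1, 1, 1] = _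
    simp only [evZ]
    ring
  have e14 : evZ (x : ℤ) (Phi 14) = (x : ℤ) ^ 6 - (x : ℤ) ^ 5 + (x : ℤ) ^ 4 - (x : ℤ) ^ 3 + (x : ℤ) ^ 2 - x + 1 := by
    show evZ x [1, -1, 1, -1, 1, -1, 1] = _
    simp only [evZ]
    ring
  simp only [od, List.map_cons, List.map_nil, List.prod_cons, List.prod_nil, ev1, ev2, ev3, ev4, ev5, ev6, e7, ev8,
    ev9, ev10, ev12, e14, ev18]
  ring

end E7f

/-- **Type `E₇`, the orders `3` and `9`.** -/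
theorem kill_E7_39 (K : Type u) [Field K] [Fintype K] : Kill ↥(chevE7.group K) (Fintype.card K) 3 9 :=
  split_kill_sl hpE7 K E7f.hA TabE7f.data (by decide +kernel) TabE7f.c1 E7f.cls0 TabE7f.ok1 TabE7f.dvd1 E7f.lam_ok
    (by decide) E7f.quo_ok E7f.dz_ok rfl (E7f.card_dvd K)

end Cfsg.Agent.H632.PQ
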