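import Cfsg.Agent.H632.PQ.CardE8
import Cfsg.Agent.H632.PQ.CrtE8m
import Cfsg.Agent.H329.PQ.NotE8

/-!
# `E₈`: the orders `2`, `6`, and the prime `2` with the order `3` (helper632, for S4612)

Constituents of the permutation character on the cosets of the maximal parabolic subgroup of type `E₆ A₁`:
* `χ₈` of degree `q P4² P8 P12 P20 P24` is congruent to `1` modulo `P6`,
* `χ₈` is congruent to `χ₅₆₇` of degree `q⁶ P3³ P6³ P7 P9 P12² P14 P15 P18 P24 P30` modulo `P2`,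
* `χ₅₆₇` is not in the principal `l`-block for `l` of order `3`, `6` (helper329's `not_mem_E8`).
-/

set_option autoImplicit false
set_option maxRecDepth 20000

namespace Cfsg.Agent.H632.PQ

open Cfsg Cfsg.Lie Cfsg.Agent.H317.PQ Cfsg.Agent.H632.PQ.Arith Cfsg.Agent.H996.PQ Cfsg.Agent.H996.Eight.Cert
  Cfsg.Agent.H64.Dl.Sph Cfsg.Agent.H35.ExcIdx
open Cfsg.Agent.ChevalleyStructure Cfsg.Agent.ChevalleyStructure.CoxeterGeomTypes Cfsg.Agent.Nodes.RGDChev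
open CoxeterSystem Cfsg.Agent.ChevalleyStructure.CoxeterGeom Cfsg.Agent.Tits.Roots Cfsg.Agent.Tits.Core
open CrtE8m

universe u

namespace E8m

/-- `(χ₈ - 1) / P6` -/
def q6 (c : Fin 26) : List ℤ := ([[], [-1, -2, -2, -1, 0, 1, 1, 0, -1, 0, 1, 1, 0, -1, -2, -2, -1], [0, 0, -1, -2, -3, -4, -5, -5, -5, -5, -4, -2, -1, 0, 1, 1, 0, -1, -2, -4, -5, -5, -5, -5, -4, -3, -2, -1], [0, 0, 0, 0, 0, -1, -2, -2, -1, -1, -1, -1, -1, -1, 1, 2, 1, -1, -1, -1, -1, -1, -1, -2, -2, -1], [0, 0, 0, 0, 0, 0, -1, -3, -5, -7, -11, -15, -17, -18, -19, -16, -11, -8, -6, -1, 2, 1, -1, -3, -9, -15, -17, -17, -18, -17, -14, -11, -8, -4, -1], [0, 0, 0, 0, 0, 0, 0, 0, 0, 0, 0, -1, -3, -5, -7, -10, -13, -15, -17, -18, -16, -13, -11, -8, -4, -2, -2, -2, -4, -8, -11, -13, -16, -18, -17, -15, -13, -10, -7,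 -5, -3, -1], [0, 0, 0, 0, 0, 0, 0, 0, 0, 0, 0, -1, -3, -5, -7, -10, -13, -15, -17, -18, -16, -13, -11, -8, -4, -2, -2, -2, -4, -8, -11, -13, -16, -18, -17, -15, -13, -10, -7, -5, -3, -1], [0, 0, 0, 0, 0, 0, 0, 0, 0, 0, 0, 0, 0, 0, 0, -1, -2, -2, -1, -1, -1, -1, -1, -1, 1, 2, 1, -1, -1, -1, -1, -1, -1, -2, -2, -1], [0, 0, 0, 0, 0, 0, 0, 0, 0, 0, 0, 0, 0, 0, 0, 0, -2, -7, -13, -19, -26, -33, -38, -42, -44, -40, -32, -25, -18, -10, -5, -5, -7, -12, -21, -29, -34, -39, -43, -42, -37, -31, -24, -17, -12, -8, -4, -1], [0, 0, 0, 0, 0, 0, 0, 0, 0, 0, 0, 0, 0, 0, 0, 0, 0, 0, -1, -1, 0, 1, 1, 1, 0, -1, -1], [0, 0, 0, 0, 0, 0, 0, 0, 0, 0, 0, 0, 0, 0, 0, 0, 0, 0, 0, 0, -1, -3, -6, -11, -17, -23, -29, -35, -38, -39, -38, -34, -27, -21, -15, -10, -8, -10, -13, -18, -25, -31, -35, -38, -39,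 -36, -32, -27, -21, -15, -11, -7, -4, -2, -1], [0, 0, 0, 0, 0, 0, 0, 0, 0, 0, 0, 0, 0, 0, 0, 0, 0, 0, 0, -1, -2, -2, -2, -3, -3, -2, -2, -3, -2, -1, -1, 0, 2, 1, -2, -3, -2, -2, -2, -2, -3, -4, -3, -1], [0, 0, 0, 0, 0, 0, 0, 0, 0, 0, 0, 0, 0, 0, 0, 0, 0, 0, 0, -1, -2, -2, -2, -3, -3, -2, -2, -3, -2, -1, -1, 0, 2, 1, -2, -3, -2, -2, -2, -2, -3, -4, -3, -1], [0, 0, 0, 0, 0, 0, 0, 0, 0, 0, 0, 0, 0, 0, 0, 0, 0, 0, 0, 0, -1, -3, -5, -8, -14, -20, -23, -26, -30, -30, -27, -26, -23, -14, -7, -7, -7, -6, -10, -16, -18, -21, -28, -32, -30, -27, -24, -19, -14, -11, -8, -4, -1], [0, 0, 0, 0, 0, 0, 0, 0, 0, 0, 0, 0, 0, 0, 0, 0, 0, 0, 0, 0, 0, 0, 0, 0, 0, -1, -3, -6, -12, -21, -30, -38, -46, -52, -54, -54, -51, -42, -31, -23, -17, -12, -12, -17, -23, -31, -41, -48, -51, -53, -53, -48,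 -40, -32, -24, -17, -12, -8, -4, -1], [0, 0, 0, 0, 0, 0, 0, 0, 0, 0, 0, 0, 0, 0, 0, 0, 0, 0, 0, 0, 0, 0, 0, 0, 0, 0, 0, 0, -1, -3, -4, -3, -3, -4, -4, -3, -3, -2, 0, 0, -2, -1, 1, 0, -3, -4, -4, -4, -3, -2, -3, -4, -3, -1], [0, 0, 0, 0, 0, 0, 0, 0, 0, 0, 0, 0, 0, 0, 0, 0, 0, 0, 0, 0, 0, 0, 0, 0, 0, 0, 0, 0, -1, -3, -4, -3, -3, -4, -4, -3, -3, -2, 0, 0, -2, -1, 1, 0, -3, -4, -4, -4, -3, -2, -3, -4, -3, -1], [0, 0, 0, 0, 0, 0, 0, 0, 0, 0, 0, 0, 0, 0, 0, 0, 0, 0, 0, 0, 0, 0, 0, 0, 0, 0, 0, 0, 0, 0, -1, -3, -5, -8, -13, -18, -22, -26, -29, -29, -28, -27, -23, -17, -13, -11, -9, -9, -12, -15, -18, -23, -27, -28, -28, -28, -26, -22, -18, -14, -10, -7, -5, -3, -1], [0, 0, 0, 0, 0, 0, 0, 0, 0, 0, 0, 0, 0, 0, 0, 0, 0, 0, 0, 0, 0, 0, 0, 0, 0, 0, 0, 0, 0, 0, -1, -3, -5, -8, -13, -18,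 -22, -26, -29, -29, -28, -27, -23, -17, -13, -11, -9, -9, -12, -15, -18, -23, -27, -28, -28, -28, -26, -22, -18, -14, -10, -7, -5, -3, -1], [0, 0, 0, 0, 0, 0, 0, 0, 0, 0, 0, 0, 0, 0, 0, 0, 0, 0, 0, 0, 0, 0, 0, 0, 0, 0, 0, 0, 0, 0, 0, 0, 0, 0, 0, 0, -1, -2, -2, -2, -3, -3, -2, -1, -1, 0, 0, -1, -1, 1, 1, -1, -3, -3, -3, -2, -1, -1, -2, -2, -1], [0, 0, 0, 0, 0, 0, 0, 0, 0, 0, 0, 0, 0, 0, 0, 0, 0, 0, 0, 0, 0, 0, 0, 0, 0, 0, 0, 0, 0, 0, 0, 0, 0, 0, 0, 0, 0, -2, -7, -13, -18, -25, -33, -38, -40, -43, -42, -35, -28, -25, -19, -12, -11, -15, -17, -21, -29, -35, -36, -38, -41, -40, -35, -30, -25, -19, -14, -11, -8, -4, -1], [0, 0, 0, 0, 0, 0, 0, 0, 0, 0, 0, 0, 0, 0, 0, 0, 0, 0, 0, 0, 0, 0, 0, 0, 0, 0, 0, 0, 0, 0, 0, 0, 0, 0, 0, 0, 0, 0, 0, 0, 0, 0, 0, -1, -3, -5, -7, -10, -13, -15,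 -17, -18, -17, -15, -14, -12, -9, -7, -7, -7, -8, -10, -12, -13, -15, -17, -17, -16, -15, -14, -12, -10, -8, -6, -4, -3, -2, -1], [0, 0, 0, 0, 0, 0, 0, 0, 0, 0, 0, 0, 0, 0, 0, 0, 0, 0, 0, 0, 0, 0, 0, 0, 0, 0, 0, 0, 0, 0, 0, 0, 0, 0, 0, 0, 0, 0, 0, 0, 0, -1, -1, 0, 1, 0, -1, -1, 0, 1, 2, 1, -1, -2, -1], [0, 0, 0, 0, 0, 0, 0, 0, 0, 0, 0, 0, 0, 0, 0, 0, 0, 0, 0, 0, 0, 0, 0, 0, 0, 0, 0, 0, 0, 0, 0, 0, 0, 0, 0, 0, 0, 0, 0, 0, 0, 0, -1, -2, -2, -1, -2, -4, -5, -5, -6, -5, -3, -2, -3, -2, -1, -2, -3, -1, 0, -2, -5, -6, -6, -5, -3, -2, -3, -4, -3, -1], [0, 0, 0, 0, 0, 0, 0, 0, 0, 0, 0, 0, 0, 0, 0, 0, 0, 0, 0, 0, 0, 0, 0, 0, 0, 0, 0, 0, 0, 0, 0, 0, 0, 0, 0, 0, 0, 0, 0, 0, 0, 0, 0, 0, 0, 0, 0, 0, 0, 0, 0, -1, -2, -2, -2, -4, -6, -6, -5, -5, -4, -3, -3, -3, -1, 0, -2, -4, -3, -2, -3,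 -5, -6, -6, -5, -3, -2, -3, -4, -3, -1], [0, 0, 0, 0, 0, 0, 0, 0, 0, 0, 0, 0, 0, 0, 0, 0, 0, 0, 0, 0, 0, 0, 0, 0, 0, 0, 0, 0, 0, 0, 0, 0, 0, 0, 0, 0, 0, 0, 0, 0, 0, 0, 0, 0, 0, 0, 0, 0, 0, 0, 0, 0, 0, 0, 0, 0, 0, 0, 0, 0, 0, 0, 0, 0, 0, 0, 0, 0, -1, -1, 0, 1, 1, 0, -1, -1, 0, 1, 1, 0, -1, -1]] : List (List ℤ)).getD c []

/-- `(χ₈ - χ₅₆₇) / P2` -/
def q2 (c : Fin 26) : List ℤ := ([[], [0, 1, 0, 1, 1, 2, 1, 2, 2, 2, 2, 1, 2, 1, 1, 0, 1], [0, -1, 0, -1, -1, -1, 0, 0, 1, 3, 3, 6, 6, 8, 8, 9, 8, 8, 7, 5, 5, 3, 2, 1, 1], [0, 0, 0, 0, -1, 0, 0, 0, -1, 1, 0, 2, -1, 4, 0, 4, 0, 4, 1, 3, 0, 3, 0, 1, 0, 1], [0, 0, 0, 0, 1, -1, -1, -2, -2, -8, -4, -8, -5, -10, 0, -4, 6, 3, 15, 13, 20, 16, 23, 18, 17, 13, 13, 7, 5, 3, 2], [0, 0, 0, 0, 0, 0, 0, 0, 0, 1, -1, -1, -1, -3, -5, -5, -7, -8, -7,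 -7, -5, -3, 1, 3, 8, 9, 12, 14, 13, 13, 12, 10, 7, 6, 4, 2, 1, 1], [0, 0, 0, 0, 0, 0, 0, 0, 0, 1, -1, -1, -1, -3, -5, -5, -7, -8, -7, -7, -5, -3, 1, 3, 8, 9, 12, 14, 13, 13, 12, 10, 7, 6, 4, 2, 1, 1], [0, 0, 0, 0, 0, 0, 0, 0, 0, 1, 0, 0, 0, 1, -2, 1, -2, 1, -3, 1, -2, 2, -2, 2, 0, 2, 0, 2, 1, 1, 0, 1], [0, 0, 0, 0, 0, 0, 0, 0, 0, -1, 1, 1, 1, 2, 4, 1, 1, 0, -5, -8, -12, -15, -19, -18, -19, -14, -10, -4, 4, 11, 16, 21, 25, 24, 23, 21, 17, 12, 9, 6, 3, 1, 1], [0, 0, 0, 0, 0, 0, 0, 0, 0, 0, 0, 0, 1, -2, 2, -2, 2, -2, 2, -2, 2, -2, 2, -1, 1, -1, 1], [0, 0, 0, 0, 0, 0, 0, 0, 0, 0, 0, 0, -1, 0, -1, -1, 0, 0, 0, 1, 1, -1, -1, -4, -7, -10, -13, -16, -17, -17, -16, -12, -8, -3, 3, 8, 12, 15, 17, 16, 15, 13, 10, 7, 5, 3, 1, 1], [0, 0, 0, 0, 0, 0, 0, 0, 0, 0, 0, 0, -1, 2, -2, 2, -2,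 3, -4, 3, -3, 2, -5, 2, -4, 1, -4, 1, -1, 1, -1, 3, 1, 2, 1, 3, 1, 1, 1, 1], [0, 0, 0, 0, 0, 0, 0, 0, 0, 0, 0, 0, -1, 2, -2, 2, -2, 3, -4, 3, -3, 2, -5, 2, -4, 1, -4, 1, -1, 1, -1, 3, 1, 2, 1, 3, 1, 1, 1, 1], [0, 0, 0, 0, 0, 0, 0, 0, 0, 0, 0, 0, 1, -2, 2, -2, 2, -3, 7, -5, 5, -3, 4, -9, 0, -10, -8, -15, -12, -13, -12, -11, -6, 0, 0, 6, 11, 13, 11, 14, 13, 10, 7, 7, 4, 2, 1, 1], [0, 0, 0, 0, 0, 0, 0, 0, 0, 0, 0, 0, 0, 0, 0, 0, 0, -1, -2, 0, -3, -1, 0, 0, 0, 2, 2, -2, -2, -7, -11, -16, -20, -24, -24, -25, -21, -16, -11, -4, 4, 10, 13, 17, 18, 16, 14, 12, 8, 5, 3, 2], [0, 0, 0, 0, 0, 0, 0, 0, 0, 0, 0, 0, 0, 0, 0, 0, 0, 0, -1, 1, -1, 0, 0, 1, -1, 0, 1, -1, 0, -2, 1, -4, 0, -4, 1, -4, 0, -2, 2, -2, 2, 1, 2, 0, 2, 1, 1, 0, 1], [0, 0, 0, 0, 0, 0, 0, 0, 0, 0, 0, 0, 0, 0, 0, 0, 0,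 0, -1, 1, -1, 0, 0, 1, -1, 0, 1, -1, 0, -2, 1, -4, 0, -4, 1, -4, 0, -2, 2, -2, 2, 1, 2, 0, 2, 1, 1, 0, 1], [0, 0, 0, 0, 0, 0, 0, 0, 0, 0, 0, 0, 0, 0, 0, 0, 0, 0, 1, -1, 1, 0, -1, -1, 0, -2, -2, 0, -2, -1, -1, -1, -3, -3, -6, -7, -10, -12, -13, -13, -14, -12, -9, -7, -4, 0, 3, 4, 6, 7, 6, 5, 5, 3, 2, 1, 1], [0, 0, 0, 0, 0, 0, 0, 0, 0, 0, 0, 0, 0, 0, 0, 0, 0, 0, 1, -1, 1, 0, -1, -1, 0, -2, -2, 0, -2, -1, -1, -1, -3, -3, -6, -7, -10, -12, -13, -13, -14, -12, -9, -7, -4, 0, 3, 4, 6, 7, 6, 5, 5, 3, 2, 1, 1], [0, 0, 0, 0, 0, 0, 0, 0, 0, 0, 0, 0, 0, 0, 0, 0, 0, 0, 0, 0, 0, 0, 0, 0, 0, -1, 1, -1, 1, -2, 3, -3, 3, -2, 3, -3, 2, -3, 2, -4, 1, -3, 1, -3, 1, -1, 1, -1, 2, 0, 1, 0, 1], [0, 0, 0, 0, 0, 0, 0, 0, 0, 0, 0, 0, 0, 0, 0, 0, 0, 0, 0, 0, 0, 0, 1, 0, 1, 2, 0, 0, 0, 1, -5, 2, -4,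 1, -6, 5, -6, 3, -8, 1, -13, -7, -19, -11, -24, -17, -22, -13, -19, -8, -7, 0, -2, 6, 5, 6, 4, 6, 3, 2, 1, 1], [0, 0, 0, 0, 0, 0, 0, 0, 0, 0, 0, 0, 0, 0, 0, 0, 0, 0, 0, 0, 0, 0, 0, 0, 0, 0, 0, 1, 0, 1, 1, 2, 0, 2, 1, 0, 1, 0, 0, -1, 1, -1, 0, -1, -1, -2, -3, -5, -5, -7, -8, -8, -8, -8, -7, -5, -4, -3, -1, 0, 0, 1, 1, 1, 0, 1], [0, 0, 0, 0, 0, 0, 0, 0, 0, 0, 0, 0, 0, 0, 0, 0, 0, 0, 0, 0, 0, 0, 0, 0, 0, 1, -1, 1, -1, 1, -2, 3, -3, 3, -3, 3, -3, 3, -3, 3, -3, 2, -2, 2, -2, 1, -1, 1, -1, 1], [0, 0, 0, 0, 0, 0, 0, 0, 0, 0, 0, 0, 0, 0, 0, 0, 0, 0, 0, 0, 0, 0, 0, 0, 0, -1, 1, -1, 1, -1, 3, -3, 4, -3, 5, -5, 6, -5, 5, -6, 6, -6, 5, -6, 5, -6, 3, -6, 3, -7, 1, -5, 1, -5, 1, -2, 1, -2, 2, 0, 1, 0, 1], [0, 0, 0, 0, 0, 0, 0, 0, 0, 0, 0, 0, 0, 0, 0, 0, 0, 0, 0, 0, 0, 0, 0, 0, 0, 0, 0,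 0, 0, 0, -1, 0, -1, 0, -2, 2, -3, 2, -2, 3, -3, 3, -2, 3, -3, 3, -3, 3, -3, 3, -3, 2, -3, 2, -4, 0, -4, 0, -5, -1, -3, -1, -3, 0, -1, 0, -1, 1], [0, 0, 0, 0, 0, 0, 0, 0, 0, 0, 0, 0, 0, 0, 0, 0, 0, 0, 0, 0, 0, 0, 0, 0, 0, 0, 0, 0, 0, 0, 0, 0, 0, 0, 0, 0, 0, 0, 0, 0, 0, 0, 0, -1, 1, -1, 1, -1, 1, -1, 1, -1, 1, -1, 1, -1, 1, -1, 1, -1, 1, -1, 1, -1, 1, -1, 1, -1]] : List (List ℤ)).getD c []

theorem q6_ok : ∀ c, pEq (pAdd (lam8 c) (pNeg (TabE8c.kk c))) (pMul (Phi 6) (q6 c)) = true := by decide +kernel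

theorem q2_ok : ∀ c, pEq (pAdd (lam8 c) (pNeg (lam567 c))) (pMul (Phi 2) (q2 c)) = true := by decide +kernel

/-- the degree of `χ₅₆₇` without `P3³` -/
def r3 : List ℤ := [0, 0, 0, 0, 0, 0, 1, -3, 4, -1, -4, 5, 3, -14, 17, -5, -11, 14, 5, -29, 34, -9, -20, 21, 15, -50, 47, -3, -33, 22, 32, -70, 53, 7, -43, 18, 47, -79, 47, 18, -43, 7, 53, -70, 32, 22, -33, -3, 47, -50, 15, 21, -20, -9, 34, -29, 5, 14, -11, -5, 17, -14, 3, 5, -4, -1, 4, -3, 1]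

/-- the degree of `χ₅₆₇` without `P6³` -/
def r6 : List ℤ := [0, 0, 0, 0, 0, 0, 1, 3, 4, 1, -4, -5, 3, 14, 17, 5, -11, -14, 5, 29, 34, 9, -20, -21, 15, 50, 47, 3, -33, -22, 32, 70, 53, -7, -43, -18, 47, 79, 47, -18, -43, -7, 53, 70, 32, -22, -33, 3, 47, 50, 15, -21, -20, 9, 34, 29, 5, -14, -11, 5, 17, 14, 3, -5, -4, 1, 4, 3, 1]

theorem r3_ok : pEq c567.dn (pMul (pPow (Phi 3) 3) r3) = true := by decide +kernel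

theorem r6_ok : pEq c567.dn (pMul (pPow (Phi 6) 3) r6) = true := by decide +kernel

theorem hA : cartanOf chevE8 8 = TabE8c.A := by
  funext i k
  revert i k
  decide +kernel

theorem cls0 : TabE8c.data.t.cls TabE8c.data.t.o = 0 := by decide +kernel

/-- the degree of `χ₅₆₇` -/
theorem val567 {x : ℕ} (hx : 2 ≤ x) : ((val c567.den c567.dn x : ℕ) : ℤ) = evZ x c567.dn := by
  have h1 := deg_polOf' ok567.2.2.2.2 ok567.2.1 dvd567 hx (0 : Fin 1)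
  have h2 : ((polOf c567).den 0 : ℤ) = 1 := rfl
  rw [h2, one_mul] at h1
  exact h1

/-- the degree of a character with the certificate of `χ₅₆₇` -/
theorem deg567 {G : Type u} [Group G] {χ : IrrCharacter G} {x : ℕ} (hx : 2 ≤ x)
    (h : charDegree (χ : G → ℂ) = val c567.den c567.dn x) : (charDegree (χ : G → ℂ) : ℤ) = evZ x c567.dn := by
  rw [h]
  exact val567 hx

theorem cube3 {G : Type u} [Group G] {χ : IrrCharacter G} {x : ℕ} (hx : 2 ≤ x)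
    (h : charDegree (χ : G → ℂ) = val c567.den c567.dn x) :
    ((Polynomial.cyclotomic 3 ℤ).eval (x : ℤ)) ^ 3 ∣ (charDegree (χ : G → ℂ) : ℤ) := by
  have h1 : (Polynomial.cyclotomic 3 ℤ).eval (x : ℤ) = evZ x (Phi 3) := by
    rw [Polynomial.cyclotomic_three, ev3]
    simp
  rw [deg567 hx h, h1, evZ_of_pEq (x : ℤ) r3_ok, evZ_pMul, evZ_pPow]
  exact dvd_mul_right _ _

theorem cube6 {G : Type u} [Group G] {χ : IrrCharacter G} {x : ℕ} (hx : 2 ≤ x)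
    (h : charDegree (χ : G → ℂ) = val c567.den c567.dn x) :
    ((Polynomial.cyclotomic 6 ℤ).eval (x : ℤ)) ^ 3 ∣ (charDegree (χ : G → ℂ) : ℤ) := by
  have h1 : (Polynomial.cyclotomic 6 ℤ).eval (x : ℤ) = evZ x (Phi 6) := by
    rw [Polynomial.cyclotomic_six, ev6]
    simp
  rw [deg567 hx h, h1, evZ_of_pEq (x : ℤ) r6_ok, evZ_pMul, evZ_pPow]
  exact dvd_mul_right _ _

end E8m

/-- **Type `E₈`, the orders `2` and `6`.** -/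
theorem kill_E8_26 (K : Type u) [Field K] [Fintype K] : Kill ↥(chevE8.group K) (Fintype.card K) 2 6 := by
  intro p l hp hl _ hl2 _ _ _ hp' hl' hS
  have : Finite ↥(chevE8.group K) := inferInstance
  have hx : 2 ≤ Fintype.card K := Fintype.one_lt_card
  have hS' : B0 p ↥(chevE8.group K) = B0 l ↥(chevE8.group K) := hS
  obtain ⟨P, hP⟩ := split_mod hpE8 K E8m.hA TabE8c.data (by decide +kernel) E8m.cls0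
  obtain ⟨χ, h1⟩ := hP.ex c8 ok8 uq8 dvd8
  obtain ⟨ψ, h2⟩ := hP.ex c567 ok567 uq567 dvd567
  have h3 : χ ∈ B0 l ↥(chevE8.group K) :=
    hP.sl h1 lam_ok8 hl (dvd_of_quo E8m.q6_ok (dvd_Phi hl hl' (by decide)))
  rw [← hS'] at h3
  have h4 : ψ ∈ B0 p ↥(chevE8.group K) :=
    (hP.link h1 h2 lam_ok8 lam_ok567 hp (dvd_of_quo E8m.q2_ok (dvd_Phi hp hp' (by decide)))).1 h3
  rw [hS'] at h4
  exact H329.PQ.not_mem_E8 K hl hl2 (Or.inr rfl) hl' (hP.rat h2) (E8m.cube6 hx (hP.deg h2)) h4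

/-- **Type `E₈`, the prime `2` and the order `3`.** -/
theorem killTwo_E8_3 (K : Type u) [Field K] [Fintype K] (hodd : Fintype.card K % 2 = 1) :
    KillTwo ↥(chevE8.group K) (Fintype.card K) 3 := by
  intro l hl hl2 _ hl' hS
  have : Finite ↥(chevE8.group K) := inferInstance
  have hx : 2 ≤ Fintype.card K := Fintype.one_lt_card
  have hS' : B0 2 ↥(chevE8.group K) = B0 l ↥(chevE8.group K) := hS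
  obtain ⟨P, hP⟩ := split_mod hpE8 K E8m.hA TabE8c.data (by decide +kernel) E8m.cls0
  obtain ⟨ψ, h2⟩ := hP.ex c567 ok567 uq567 dvd567
  have h1 : ∀ g, ∃ k : ℤ, (ψ : ↥(chevE8.group K) → ℂ) g = k := fun g =>
    Cfsg.Agent.Characters.GaloisBasic.exists_int_of_rat (Characters.Core.isIrr_isCharacter ψ.2) g (hP.rat h2 g)
  choose v hv using h1
  have h3 : v 1 = evZ (Fintype.card K : ℕ) c567.dn := by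
    have h4 := Blocks.Basic.irr_one_eq_charDegree ψ.2
    rw [hv] at h4
    have h5 : v 1 = (charDegree (ψ : ↥(chevE8.group K) → ℂ) : ℤ) := by exact_mod_cast h4
    rw [h5, E8m.deg567 hx (hP.deg h2)]
  have h4 : ψ ∈ B0 2 ↥(chevE8.group K) := by
    refine mem_B0_two hv ?_
    rw [h3, Int.odd_iff]
    have h5 : ((Fintype.card K : ℕ) : ℤ) % 2 = 1 := by exact_mod_cast hodd
    rw [evZ_emod, h5]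
    decide +kernel
  rw [hS'] at h4
  exact H329.PQ.not_mem_E8 K hl hl2 (Or.inl rfl) hl' (hP.rat h2) (E8m.cube3 hx (hP.deg h2)) h4

end Cfsg.Agent.H632.PQ
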