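import Cfsg.Agent.H632.PQ.CardE8
import Cfsg.Agent.H632.PQ.CrtE8nA

/-!
# `E₈`: the orders `8` and `24` (helper632, for S4612)

Constituents of the permutation character on the cosets of the maximal parabolic subgroup of type `A₇`:
* `χ₃₅` of degree `q² P5 P7 P10 P14 P15 P20 P30` is congruent to `1` modulo `P24`,
* `χ₃₅` is congruent to `χ₅₆₇` of degree `q⁶ P3³ P6³ P7 P9 P12² P14 P15 P18 P24 P30` modulo `P8`,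
* `χ₅₆₇` has defect zero for `l` of order `24`.
-/

set_option autoImplicit false
set_option maxRecDepth 20000
set_option maxHeartbeats 2000000

namespace Cfsg.Agent.H632.PQ

open Cfsg Cfsg.Lie Cfsg.Agent.H317.PQ Cfsg.Agent.H632.PQ.Arith Cfsg.Agent.H996.PQ Cfsg.Agent.H996.Eight.Cert
  Cfsg.Agent.H64.Dl.Sph Cfsg.Agent.H35.ExcIdx
open Cfsg.Agent.ChevalleyStructure Cfsg.Agent.ChevalleyStructure.CoxeterGeomTypes Cfsg.Agent.Nodes.RGDChev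
open CoxeterSystem Cfsg.Agent.ChevalleyStructure.CoxeterGeom Cfsg.Agent.Tits.Roots Cfsg.Agent.Tits.Core
open CrtE8nA

universe u

namespace E8n

/-- `(χ₃₅ - 1) / P24` -/
def q24 (c : Fin 35) : List ℤ := ([[], [-1, -1, -2, -2, -3, -2, -2, -1, -1], [0, 0, 1, 0, -1, -4, -7, -13, -16, -20, -20, -19, -15, -12, -7, -4, -2, -1], [0, 0, 0, 0, 0, 1, 2, 3, 2, -1, -9, -19, -32, -43, -52, -54, -52, -44, -35, -24, -16, -9, -5, -2, -1], [0, 0, 0, 0, 0, 0, 0, 1, 1, 1, -1, -2, -4, -5, -7, -7, -6, -4, -3, -2, -1], [0, 0, 0, 0, 0, 0, 0, 0, 1, 3, 7, 11, 13, 9, -3, -25, -54, -85, -112, -129, -133, -124, -106, -83, -60, -40, -25, -14, -7, -3, -1], [0, 0, 0, 0, 0, 0, 0, 0, 0, 0, 0, 0, 1, 1, 1, -1, -1, -3, -3, -5, -4, -4, -2, -2, -1, -1], [0, 0, 0, 0, 0, 0, 0, 0, 0,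 0, 0, 0, 0, 2, 6, 12, 17, 19, 14, 0, -23, -52, -80, -103, -115, -117, -107, -91, -71, -53, -36, -23, -13, -7, -3, -1], [0, 0, 0, 0, 0, 0, 0, 0, 0, 0, 0, 0, 1, 2, 4, 6, 7, 5, 1, -7, -17, -27, -35, -40, -40, -37, -31, -24, -17, -12, -7, -4, -2, -1], [0, 0, 0, 0, 0, 0, 0, 0, 0, 0, 0, 0, 1, 2, 4, 6, 7, 5, 1, -7, -17, -27, -35, -40, -40, -37, -31, -24, -17, -12, -7, -4, -2, -1], [0, 0, 0, 0, 0, 0, 0, 0, 0, 0, 0, 0, 0, 0, 0, 2, 7, 17, 31, 45, 53, 47, 23, -22, -80, -144, -199, -238, -253, -246, -221, -185, -146, -108, -76, -49, -30, -16, -8, -3, -1], [0, 0, 0, 0, 0, 0, 0, 0, 0, 0, 0, 0, 0, 0, 0, 0, 0, 0, 1, 3, 6, 9, 10, 9, 4, -4, -16, -26, -36, -41, -44, -41, -37, -30, -24, -17, -12, -7, -4, -2, -1], [0, 0, 0, 0, 0, 0, 0, 0, 0, 0, 0, 0, 0, 0, 0, 0,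 0, 0, 0, 2, 8, 20, 38, 58, 73, 74, 55, 12, -49, -120, -186, -238, -266, -271, -254, -224, -185, -146, -108, -76, -49, -30, -16, -8, -3, -1], [0, 0, 0, 0, 0, 0, 0, 0, 0, 0, 0, 0, 0, 0, 0, 0, 0, 0, 0, 1, 2, 4, 6, 9, 9, 8, 2, -4, -13, -20, -27, -30, -30, -27, -23, -19, -14, -10, -6, -4, -2, -1], [0, 0, 0, 0, 0, 0, 0, 0, 0, 0, 0, 0, 0, 0, 0, 0, 0, 0, 0, 1, 2, 4, 6, 9, 9, 8, 2, -4, -13, -20, -27, -30, -30, -27, -23, -19, -14, -10, -6, -4, -2, -1], [0, 0, 0, 0, 0, 0, 0, 0, 0, 0, 0, 0, 0, 0, 0, 0, 0, 0, 0, 0, 0, 0, 1, 4, 11, 23, 39, 55, 66, 65, 48, 15, -31, -82, -129, -165, -186, -190, -181, -162, -137, -110, -84, -60, -40, -25, -14, -7, -3, -1], [0, 0, 0, 0, 0, 0, 0, 0, 0, 0, 0, 0, 0, 0, 0, 0, 0, 0, 0, 0, 0, 0, 1, 4, 11, 23, 39, 55, 66, 65, 48, 15,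 -31, -82, -129, -165, -186, -190, -181, -162, -137, -110, -84, -60, -40, -25, -14, -7, -3, -1], [0, 0, 0, 0, 0, 0, 0, 0, 0, 0, 0, 0, 0, 0, 0, 0, 0, 0, 0, 0, 0, 0, 0, 0, 0, 1, 2, 4, 5, 6, 4, 3, -2, -5, -10, -11, -14, -12, -13, -10, -9, -6, -6, -3, -2, -1, -1], [0, 0, 0, 0, 0, 0, 0, 0, 0, 0, 0, 0, 0, 0, 0, 0, 0, 0, 0, 0, 0, 0, 0, 0, 0, 0, 3, 10, 26, 49, 80, 107, 126, 121, 93, 36, -36, -117, -189, -246, -279, -290, -281, -257, -224, -185, -146, -108, -76, -49, -30, -16, -8, -3, -1], [0, 0, 0, 0, 0, 0, 0, 0, 0, 0, 0, 0, 0, 0, 0, 0, 0, 0, 0, 0, 0, 0, 0, 0, 0, 0, 0, 0, 1, 1, 1, 0, 0, -1, -1, -2, -2, -2, -1, -1, -1, -1], [0, 0, 0, 0, 0, 0, 0, 0, 0, 0, 0, 0, 0, 0, 0, 0, 0, 0, 0, 0, 0, 0, 0, 0, 0, 0, 0, 0, 0, 2, 5, 9, 12, 15, 15, 12, 5, -4, -13, -21,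 -27, -31, -32, -30, -27, -23, -19, -14, -10, -6, -4, -2, -1], [0, 0, 0, 0, 0, 0, 0, 0, 0, 0, 0, 0, 0, 0, 0, 0, 0, 0, 0, 0, 0, 0, 0, 0, 0, 0, 0, 0, 0, 2, 5, 9, 12, 15, 15, 12, 5, -4, -13, -21, -27, -31, -32, -30, -27, -23, -19, -14, -10, -6, -4, -2, -1], [0, 0, 0, 0, 0, 0, 0, 0, 0, 0, 0, 0, 0, 0, 0, 0, 0, 0, 0, 0, 0, 0, 0, 0, 0, 0, 1, 0, 1, 1, 2, 0, 0, -1, -1, -2, -2, -2, -2, -1, -1, -1, -1], [0, 0, 0, 0, 0, 0, 0, 0, 0, 0, 0, 0, 0, 0, 0, 0, 0, 0, 0, 0, 0, 0, 0, 0, 0, 0, 0, 0, 0, 0, 3, 11, 28, 54, 88, 122, 147, 153, 132, 85, 15, -64, -144, -210, -259, -285, -292, -281, -257, -224, -185, -146, -108, -76, -49, -30, -16, -8, -3, -1], [0, 0, 0, 0, 0, 0, 0, 0, 0, 0, 0, 0, 0, 0, 0, 0, 0, 0, 0, 0, 0, 0, 0, 0, 0, 0, 0, 1, 1, 3, 5, 10, 14, 21, 24, 27, 23,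 16, 3, -10, -25, -37, -46, -50, -51, -49, -44, -38, -31, -24, -17, -12, -7, -4, -2, -1], [0, 0, 0, 0, 0, 0, 0, 0, 0, 0, 0, 0, 0, 0, 0, 0, 0, 0, 0, 0, 0, 0, 0, 0, 0, 0, 0, 0, 0, 0, 0, 0, 1, 2, 6, 14, 29, 47, 68, 85, 95, 90, 71, 38, -2, -45, -84, -116, -137, -148, -150, -144, -131, -113, -93, -72, -53, -36, -23, -13, -7, -3, -1], [0, 0, 0, 0, 0, 0, 0, 0, 0, 0, 0, 0, 0, 0, 0, 0, 0, 0, 0, 0, 0, 0, 0, 0, 0, 0, 0, 0, 0, 0, 0, 0, 0, 0, 0, 1, 4, 9, 16, 23, 30, 33, 32, 24, 14, -1, -15, -29, -39, -47, -50, -51, -49, -44, -38, -31, -24, -17, -12, -7, -4, -2, -1], [0, 0, 0, 0, 0, 0, 0, 0, 0, 0, 0, 0, 0, 0, 0, 0, 0, 0, 0, 0, 0, 0, 0, 0, 0, 0, 0, 0, 0, 0, 0, 0, 0, 0, 0, 1, 4, 9, 16, 23, 30, 33, 32, 24, 14, -1, -15, -29, -39, -47, -50, -51, -49, -44, -38, -31,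 -24, -17, -12, -7, -4, -2, -1], [0, 0, 0, 0, 0, 0, 0, 0, 0, 0, 0, 0, 0, 0, 0, 0, 0, 0, 0, 0, 0, 0, 0, 0, 0, 0, 0, 0, 0, 0, 0, 0, 0, 0, 0, 0, 0, 1, 4, 13, 29, 53, 82, 112, 134, 143, 134, 106, 63, 11, -43, -94, -136, -168, -188, -197, -194, -182, -162, -137, -110, -84, -60, -40, -25, -14, -7, -3, -1], [0, 0, 0, 0, 0, 0, 0, 0, 0, 0, 0, 0, 0, 0, 0, 0, 0, 0, 0, 0, 0, 0, 0, 0, 0, 0, 0, 0, 0, 0, 0, 0, 0, 0, 0, 0, 0, 0, 0, 0, 0, 1, 2, 3, 4, 5, 5, 4, 2, 0, -1, -3, -4, -6, -5, -6, -5, -6, -4, -4, -2, -2, -1, -1], [0, 0, 0, 0, 0, 0, 0, 0, 0, 0, 0, 0, 0, 0, 0, 0, 0, 0, 0, 0, 0, 0, 0, 0, 0, 0, 0, 0, 0, 0, 0, 0, 0, 0, 0, 0, 0, 0, 0, 0, 0, 0, 1, 4, 10, 21, 35, 52, 67, 79, 81, 77, 61, 41, 14, -11, -38, -59, -78, -90, -98, -99, -95, -87, -75, -62, -48, -36, -24,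 -16, -9, -5, -2, -1], [0, 0, 0, 0, 0, 0, 0, 0, 0, 0, 0, 0, 0, 0, 0, 0, 0, 0, 0, 0, 0, 0, 0, 0, 0, 0, 0, 0, 0, 0, 0, 0, 0, 0, 0, 0, 0, 0, 0, 0, 0, 0, 0, 0, 0, 1, 3, 6, 7, 9, 10, 11, 8, 5, 1, -1, -4, -7, -10, -11, -11, -11, -11, -10, -8, -6, -4, -3, -2, -1], [0, 0, 0, 0, 0, 0, 0, 0, 0, 0, 0, 0, 0, 0, 0, 0, 0, 0, 0, 0, 0, 0, 0, 0, 0, 0, 0, 0, 0, 0, 0, 0, 0, 0, 0, 0, 0, 0, 0, 0, 0, 0, 0, 0, 0, 0, 0, 0, 2, 5, 11, 18, 28, 36, 44, 46, 46, 40, 32, 19, 7, -7, -19, -31, -40, -47, -50, -51, -49, -44, -38, -31, -24, -17, -12, -7, -4, -2, -1], [0, 0, 0, 0, 0, 0, 0, 0, 0, 0, 0, 0, 0, 0, 0, 0, 0, 0, 0, 0, 0, 0, 0, 0, 0, 0, 0, 0, 0, 0, 0, 0, 0, 0, 0, 0, 0, 0, 0, 0, 0, 0, 0, 0, 0, 0, 0, 0, 0, 0, 0, 0, 0, 0, 0, 1, 2, 4, 6, 8, 9, 11, 11, 10, 8, 7, 4, 2, -2, -4,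 -7, -8, -10, -11, -11, -10, -9, -8, -6, -5, -3, -2, -1, -1], [0, 0, 0, 0, 0, 0, 0, 0, 0, 0, 0, 0, 0, 0, 0, 0, 0, 0, 0, 0, 0, 0, 0, 0, 0, 0, 0, 0, 0, 0, 0, 0, 0, 0, 0, 0, 0, 0, 0, 0, 0, 0, 0, 0, 0, 0, 0, 0, 0, 0, 0, 0, 0, 0, 0, 0, 0, 0, 0, 0, 0, 0, 0, 0, 0, 0, 0, 0, 1, 0, 0, 0, 1, 0, 0, 0, 0, 0, 0, 0, -1, 0, 0, 0, -1]] : List (List ℤ)).getD c []

/-- `(χ₃₅ - χ₅₆₇) / P8` -/
def q8 (c : Fin 35) : List ℤ := ([[], [0, 0, 0, 1, 2, 3, 4, 3, 2, 1], [0, 0, 0, -1, -3, -5, -7, -5, 0, 8, 16, 21, 21, 17, 11, 5, 2], [0, 0, 0, 0, 1, 2, 3, 1, -5, -16, -26, -32, -27, -11, 10, 30, 41, 41, 32, 21, 10, 4, 1], [0, 0, 0, 0, 0, 0, 1, 1, 0, -2, -4, -5, -3, 0, 4, 7, 7, 6, 3, 1], [0, 0, 0, 0, 0, 0, -1, 0, 3, 9, 16, 16, 3, -24, -58, -84, -86, -61, -14, 36, 71, 83, 73,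 51, 29, 13, 4, 1], [0, 0, 0, 0, 0, 0, 0, 0, 0, 1, 1, 2, 1, -1, -3, -5, -5, -3, 0, 2, 4, 3, 2, 1], [0, 0, 0, 0, 0, 0, 0, 0, 0, -1, -2, -2, 3, 14, 27, 34, 26, -1, -40, -76, -93, -81, -46, -1, 36, 55, 55, 43, 27, 14, 6, 2, 1], [0, 0, 0, 0, 0, 0, 0, 0, 0, 0, -1, 0, 2, 6, 9, 8, 0, -12, -25, -32, -28, -16, 1, 15, 22, 21, 16, 9, 4, 1], [0, 0, 0, 0, 0, 0, 0, 0, 0, 0, -1, 0, 2, 6, 9, 8, 0, -12, -25, -32, -28, -16, 1, 15, 22, 21, 16, 9, 4, 1], [0, 0, 0, 0, 0, 0, 0, 0, 0, 0, 1, 0, -2, -7, -8, 1, 25, 57, 79, 70, 19, -62, -144, -190, -181, -119, -33, 45, 91, 100, 82, 54, 28, 11, 3], [0, 0, 0, 0, 0, 0, 0, 0, 0, 0, 0, 0, 0, -1, -3, -4, -4, 1, 9, 17, 21, 16, 3, -14, -28, -34, -28, -17, -2, 9, 14, 15, 12, 8, 5, 3, 1, 1], [0, 0, 0, 0, 0, 0, 0, 0, 0, 0, 0, 0, 0,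 1, 2, 0, -6, -16, -20, -7, 29, 79, 117, 116, 60, -36, -138, -201, -203, -145, -58, 23, 74, 87, 74, 49, 26, 10, 3], [0, 0, 0, 0, 0, 0, 0, 0, 0, 0, 0, 0, 0, 0, 0, 0, -1, -2, -1, 2, 8, 13, 14, 8, -4, -18, -27, -27, -19, -6, 5, 11, 12, 9, 5, 2], [0, 0, 0, 0, 0, 0, 0, 0, 0, 0, 0, 0, 0, 0, 0, 0, -1, -2, -1, 2, 8, 13, 14, 8, -4, -18, -27, -27, -19, -6, 5, 11, 12, 9, 5, 2], [0, 0, 0, 0, 0, 0, 0, 0, 0, 0, 0, 0, 0, 0, 0, 0, 1, 2, 1, -4, -14, -23, -21, -1, 37, 78, 99, 84, 30, -45, -110, -141, -129, -83, -27, 19, 44, 47, 37, 23, 11, 4, 1], [0, 0, 0, 0, 0, 0, 0, 0, 0, 0, 0, 0, 0, 0, 0, 0, 1, 2, 1, -4, -14, -23, -21, -1, 37, 78, 99, 84, 30, -45, -110, -141, -129, -83, -27, 19, 44, 47, 37, 23, 11, 4, 1], [0, 0, 0, 0, 0, 0, 0, 0, 0, 0, 0, 0, 0, 0, 0, 0, 0, 0,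 1, 1, 0, -2, -3, -3, 2, 7, 11, 11, 5, -4, -11, -14, -12, -5, 0, 4, 5, 4, 2, 1], [0, 0, 0, 0, 0, 0, 0, 0, 0, 0, 0, 0, 0, 0, 0, 0, 0, 0, 0, 3, 7, 11, 6, -10, -36, -52, -41, 9, 86, 154, 177, 131, 29, -91, -179, -207, -171, -98, -21, 34, 57, 54, 38, 20, 8, 2], [0, 0, 0, 0, 0, 0, 0, 0, 0, 0, 0, 0, 0, 0, 0, 0, 0, 0, 0, 0, 0, -1, -1, -1, 0, 2, 2, 3, 1, -1, -2, -3, -2, 0, 0, 1, 1, 0, 1], [0, 0, 0, 0, 0, 0, 0, 0, 0, 0, 0, 0, 0, 0, 0, 0, 0, 0, 0, 0, 0, 1, 1, 0, -3, -8, -10, -9, 0, 12, 22, 25, 17, 2, -13, -24, -25, -19, -10, 0, 5, 7, 6, 4, 2, 1], [0, 0, 0, 0, 0, 0, 0, 0, 0, 0, 0, 0, 0, 0, 0, 0, 0, 0, 0, 0, 0, 1, 1, 0, -3, -8, -10, -9, 0, 12, 22, 25, 17, 2, -13, -24, -25, -19, -10, 0, 5, 7, 6, 4, 2, 1], [0, 0, 0, 0, 0, 0, 0, 0, 0, 0, 0, 0, 0, 0, 0, 0, 0,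 0, 0, 1, 0, 0, -1, -1, 0, 2, 3, 2, 1, -2, -3, -3, -2, 0, 1, 1, 1], [0, 0, 0, 0, 0, 0, 0, 0, 0, 0, 0, 0, 0, 0, 0, 0, 0, 0, 0, 0, 0, 0, 2, 7, 14, 18, 9, -15, -50, -73, -63, -9, 76, 155, 188, 153, 59, -57, -148, -186, -165, -106, -39, 13, 39, 41, 31, 17, 7, 2], [0, 0, 0, 0, 0, 0, 0, 0, 0, 0, 0, 0, 0, 0, 0, 0, 0, 0, 0, -1, 0, 0, 2, 3, 4, 1, -2, -7, -8, -1, 10, 24, 32, 29, 14, -6, -26, -35, -33, -22, -8, 3, 8, 9, 6, 3, 1], [0, 0, 0, 0, 0, 0, 0, 0, 0, 0, 0, 0, 0, 0, 0, 0, 0, 0, 0, 0, 0, 0, -1, -2, -4, -3, 1, 9, 15, 14, 0, -22, -41, -42, -15, 32, 81, 107, 96, 50, -11, -64, -89, -84, -57, -24, 2, 15, 17, 12, 6, 2], [0, 0, 0, 0, 0, 0, 0, 0, 0, 0, 0, 0, 0, 0, 0, 0, 0, 0, 0, 0, 0, 0, 0, 0, 0, 0, 1, 3, 6, 8, 6, -1, -11, -19, -19, -7, 11, 30, 39, 33, 16,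 -6, -24, -31, -28, -19, -7, 1, 5, 6, 4, 2, 1], [0, 0, 0, 0, 0, 0, 0, 0, 0, 0, 0, 0, 0, 0, 0, 0, 0, 0, 0, 0, 0, 0, 0, 0, 0, 0, 1, 3, 6, 8, 6, -1, -11, -19, -19, -7, 11, 30, 39, 33, 16, -6, -24, -31, -28, -19, -7, 1, 5, 6, 4, 2, 1], [0, 0, 0, 0, 0, 0, 0, 0, 0, 0, 0, 0, 0, 0, 0, 0, 0, 0, 0, 0, 0, 0, 0, 0, 0, 0, -1, -3, -5, -4, 4, 18, 32, 35, 19, -15, -50, -66, -47, 7, 73, 123, 133, 98, 34, -32, -78, -91, -76, -47, -17, 3, 11, 11, 7, 3, 1], [0, 0, 0, 0, 0, 0, 0, 0, 0, 0, 0, 0, 0, 0, 0, 0, 0, 0, 0, 0, 0, 0, 0, 0, 0, 0, 0, 0, 0, -1, -1, -1, 1, 2, 2, 1, -3, -4, -5, -2, 3, 7, 8, 6, 1, -3, -5, -5, -3, -1, 1, 1, 1], [0, 0, 0, 0, 0, 0, 0, 0, 0, 0, 0, 0, 0, 0, 0, 0, 0, 0, 0, 0, 0, 0, 0, 0, 0, 0, 0, 0, 0, 0, -1, -3, -6, -7, -4, 4, 16, 22, 20, 5, -16, -32,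 -31, -13, 20, 51, 66, 62, 38, 7, -19, -33, -34, -24, -13, -3, 2, 3, 2, 1], [0, 0, 0, 0, 0, 0, 0, 0, 0, 0, 0, 0, 0, 0, 0, 0, 0, 0, 0, 0, 0, 0, 0, 0, 0, 0, 0, 0, 0, 0, 0, 0, 0, 0, 0, 1, 3, 5, 6, 3, -1, -6, -8, -6, 0, 7, 12, 12, 7, 1, -5, -7, -6, -4, -1, 1, 1, 1], [0, 0, 0, 0, 0, 0, 0, 0, 0, 0, 0, 0, 0, 0, 0, 0, 0, 0, 0, 0, 0, 0, 0, 0, 0, 0, 0, 0, 0, 0, 0, 0, 0, 0, 0, -1, -3, -5, -6, -2, 4, 12, 16, 14, 4, -7, -16, -15, -4, 11, 26, 33, 30, 20, 7, -5, -10, -11, -8, -4, -1, 0, 1], [0, 0, 0, 0, 0, 0, 0, 0, 0, 0, 0, 0, 0, 0, 0, 0, 0, 0, 0, 0, 0, 0, 0, 0, 0, 0, 0, 0, 0, 0, 0, 0, 0, 0, 0, 0, 0, 0, 0, 0, 0, -1, -2, -3, -3, -2, 1, 3, 4, 3, 0, -3, -3, -3, 0, 4, 5, 7, 6, 3, 2, 0, -1, 0, -1], [0, 0, 0, 0, 0, 0, 0, 0, 0, 0, 0, 0, 0, 0, 0, 0, 0, 0, 0, 0, 0, 0,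 0, 0, 0, 0, 0, 0, 0, 0, 0, 0, 0, 0, 0, 0, 0, 0, 0, 0, 0, 0, 0, 0, 0, 0, 0, 0, 0, 0, 0, 0, -1, 0, 0, 0, 1, 0, 0, 0, -1, 0, 0, 0, 1]] : List (List ℤ)).getD c []

theorem q24_ok : ∀ c, pEq (pAdd (lam35 c) (pNeg (TabE8n.kk c))) (pMul (Phi 24) (q24 c)) = true := by decide +kernel

theorem q8_ok : ∀ c, pEq (pAdd (lam35 c) (pNeg (lam567 c))) (pMul (Phi 8) (q8 c)) = true := by decide +kernel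

/-- certificate of defect zero -/
def dz : DzC 1 :=
  ⟨24, 0, [24], [0, 0, 0, 0, 0, 0, 1, 0, 1, 0, 3, 0, 4, 0, 7, 0, 10, 0, 13, 0, 17, 0, 21, 0, 24, 0, 29, 0, 30, 0, 34, 0, 35, 0, 36, 0, 37, 0, 36, 0, 35, 0, 34, 0, 30, 0, 29, 0, 24, 0, 21, 0, 17, 0, 13, 0, 10, 0, 7, 0, 4, 0, 3, 0, 1, 0, 1], [(1, 1, [0, 0, 0, 0, -1, -1, -1, -1], [1]), (2, 1, [0, 0, 0, 0, 1, -1, 1, -1], [1]), (3, 2, [1, -2, 1, 1, -1, 1, 0, -1], [1, 1]), (4, 1, [0, 0, 0, 0, 1, 0, -1], [1]), (5, 1, [2, 0, -1, -1, -1, 1, 1], [-1, -2, -1]), (6, 2, [1, 2, 1, -1, -1, -1, 0, 1], [1, -1]), (7, 1, [1, 1, -1, -1, 1, -1, -1, 2], [0, -2, -1, 0, -1, -2]), (8, 3, [2, 0, 0, 0, -1], [1]), (9, 1, [1, -1, 0, 0, 0, 1, -1], [0, 1, 0, -1, 1]), (10, 1, [2, 0, -1, 1, -1, -1, 1], [-1, 2, -1]), (12, 2,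 [2, 0, 1, 0, -1, 0, -1], [0, 0, 1]), (14, 1, [1, -1, -1, 1, 1, 1, -1, -2], [0, 2, -1, 0, -1, 2]), (15, 1, [0, 1, 0, 0, 0, -1, 0, -1], [1, -1, 1, 0, 0, 1, -1, 1]), (18, 1, [1, 1, 0, 0, 0, -1, -1], [0, -1, 0, 1, 1]), (20, 1, [2, 0, 1, 0, -2, 0, -2], [-1, 0, 1, 0, 0, 0, 2]), (30, 1, [0, -1, 0, 0, 0, 1, 0, 1], [1, 1, 1, 0, 0, -1, -1, -1])]⟩

theorem dz_ok : dz.ok (polOf c567) od = true := by decide +kernel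

theorem hA : cartanOf chevE8 8 = TabE8n.A := by
  funext i k
  revert i k
  decide +kernel

end E8n

/-- **Type `E₈`, the orders `8` and `24`.** -/
theorem kill_E8_824 (K : Type u) [Field K] [Fintype K] : Kill ↥(chevE8.group K) (Fintype.card K) 8 24 := by
  intro p l hp hl _ hl2 _ _ hlG hp' hl' hS
  have : Finite ↥(chevE8.group K) := inferInstance
  have hx : 2 ≤ Fintype.card K := Fintype.one_lt_card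
  have hS' : B0 p ↥(chevE8.group K) = B0 l ↥(chevE8.group K) := hS
  obtain ⟨P, hP⟩ := split_mod hpE8 K E8n.hA TabE8n.data (by decide +kernel) TabE8n.cls_o
  obtain ⟨χ, h1⟩ := hP.ex c35 ok35 uq35 dvd35
  obtain ⟨ψ, h2⟩ := hP.ex c567 ok567 uq567 dvd567
  have h3 : χ ∈ B0 l ↥(chevE8.group K) :=
    hP.sl h1 lam_ok35 hl (dvd_of_quo E8n.q24_ok (dvd_Phi hl hl' (by decide)))
  rw [← hS'] at h3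
  have h4 : ψ ∈ B0 p ↥(chevE8.group K) :=
    (hP.link h1 h2 lam_ok35 lam_ok567 hp (dvd_of_quo E8n.q8_ok (dvd_Phi hp hp' (by decide)))).1 h3
  rw [hS'] at h4
  have h7 := H766.PQ.not_defect_zero hl hlG h4
  rw [hP.deg h2] at h7
  refine absurd h7 (not_lt.2 ?_)
  exact DzC.spec E8n.dz_ok hx (deg_polOf' ok567.2.2.2.2 ok567.2.1 dvd567 hx) Nat.card_pos.ne' (E8n.card_dvd K) hl hl2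
    hl'

end Cfsg.Agent.H632.PQ
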